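/-
The group ²G₂(q): the centraliser of an involution of `H¹`, normal forms.
-/
import Cfsg.Agent.Lib.Tw.ReeG2k
import Cfsg.Agent.Lib.Tw.WEq
import Cfsg.Agent.Lib.Tw.HChar2

set_option autoImplicit false
set_option maxRecDepth 100000

namespace Cfsg.Agent.Lib.Chev

open Cfsg.Lie

section

variable {K : Type*} [Field K] [CharP K 3] {hperf : ∀ x : K, ∃ y : K, y ^ 3 = x} {φ : K ≃+* K}

/-- The fixed points of the diagonal subgroup. -/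
noncomputable abbrev HfG2 (hperf : ∀ x : K, ∃ y : K, y ^ 3 = x) (φ : K ≃+* K) : Subgroup (GL chevG2.Idx K) :=
  chevG2.diagonalSubgroup K ⊓ (twG2 hperf φ).fix

/-- The fixed points of the positive unipotent subgroup. -/
noncomputable abbrev UfG2 (hperf : ∀ x : K, ∃ y : K, y ^ 3 = x) (φ : K ≃+* K) : Subgroup (GL chevG2.Idx K) :=
  chevG2.posUnipotent K ⊓ (twG2 hperf φ).fix

/-- The square of the representative. -/
lemma n0G2_sq : (n0G2 : GL chevG2.Idx K) * n0G2 = 1 := by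
  have e := good3G2.toGood2.wEqN (F := K) (p := 3)
    (w := [(8, mP 1 0 0), (10, mP 1 0 0), (3, mP (-1) 0 0), (1, mP (-1) 0 0), (8, mP 1 0 0), (10, mP 1 0 0),
      (8, mP 1 0 0), (10, mP 1 0 0), (3, mP (-1) 0 0), (1, mP (-1) 0 0), (8, mP 1 0 0), (10, mP 1 0 0)])
    (w' := [])
    (by decide +kernel) 0 0
  rw [n0G2_eq]
  simp only [mP_val, List.map_cons, List.map_nil, Tbl.Good2.gW_cons, Tbl.Good2.gW_nil, Int.cast_neg, Int.cast_one, pow_zero, mul_one, neg_mul, one_mul] at e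
  simp only [mul_assoc] at e ⊢
  exact e

lemma n0G2_inv : (n0G2 : GL chevG2.Idx K)⁻¹ = n0G2 := inv_eq_of_mul_eq_one_left n0G2_sq

lemma hperf_of (hφ : ∀ x, φ (φ (x ^ 3)) = x) : ∀ x : K, ∃ y : K, y ^ 3 = x := fun x =>
  ⟨φ (φ x), by
    rw [← map_pow, ← map_pow]
    exact hφ x⟩

/-- The second layer of `U¹`. -/
noncomputable def ruG2 (φ : K ≃+* K) (c : K) : GL chevG2.Idx K := reeU φ 0 c 0

lemma ru_mul (hφ : ∀ x, φ (φ (x ^ 3)) = x) (c d : K) : ruG2 φ c * ruG2 φ d = ruG2 φ (c + d) := by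
  unfold ruG2
  rw [reeU_mul (hperf_of hφ) φ hφ]
  simp

lemma ru_zero : ruG2 φ (0 : K) = 1 := reeU_zero φ

lemma ru_inv (hφ : ∀ x, φ (φ (x ^ 3)) = x) (c : K) : (ruG2 φ c)⁻¹ = ruG2 φ (-c) := by
  refine inv_eq_of_mul_eq_one_right ?_
  rw [ru_mul hφ, add_neg_cancel, ru_zero]

lemma ru_mem (hφ : ∀ x, φ (φ (x ^ 3)) = x) (c : K) : ruG2 φ c ∈ UfG2 hperf φ :=
  ⟨reeU_mem_U φ _ _ _, reeU_fix hperf φ hφ _ _ _⟩

/-- The action of the fixed points of `H` on the second layer. -/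
lemma conj_ru (hφ : ∀ x, φ (φ (x ^ 3)) = x) {z : GL chevG2.Idx K} (hz : z ∈ HfG2 hperf φ) (c : K) :
    z * ruG2 φ c = ruG2 φ (chi10 ⟨z, hz.1⟩ * c) * z := by
  have e := conj_reeU hperf φ hφ (z := ⟨z, hz.1⟩) hz.2 0 c 0
  rw [mul_zero, mul_zero] at e
  unfold ruG2
  rw [← e]
  show z * _ = z * _ * z⁻¹ * z
  group

/-- The characters of the conjugate under the representative. -/
lemma chi_conj_G2 {s r : ℕ} (hs : s < chevG2.nroots) (hr : r < chevG2.nroots) (e : wperm digG2.tbl [0, 1, 0, 1, 0, 1] s = r)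
    (z : ↥(chevG2.diagonalSubgroup K))
    (hz : (n0G2 : GL chevG2.Idx K) * (z : GL chevG2.Idx K) * n0G2⁻¹ ∈ chevG2.diagonalSubgroup K) :
    good3G2.toGood2.chi hr ⟨_, hz⟩ = good3G2.toGood2.chi hs z := by
  subst e
  exact good3G2.toGood2.chi_conj_nProd (by decide) z hs hz

/-- The representative inverts the fixed points of the diagonal subgroup. -/
lemma n0_conj_H (hφ : ∀ x, φ (φ (x ^ 3)) = x) {z : GL chevG2.Idx K} (hz : z ∈ HfG2 hperf φ) : n0G2 * z * n0G2⁻¹ = z⁻¹ := by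
  have hn := n0G2_fix hperf φ hφ
  have hH : (n0G2 : GL chevG2.Idx K) * ((⟨z, hz.1⟩ : ↥(chevG2.diagonalSubgroup K)) : GL chevG2.Idx K) * n0G2⁻¹ ∈ chevG2.diagonalSubgroup K :=
    good3G2.toGood2.N_conj_H n0G2_mem_N hz.1
  have hf : (n0G2 : GL chevG2.Idx K) * z * n0G2⁻¹ ∈ (twG2 hperf φ).fix :=
    Subgroup.mul_mem _ (Subgroup.mul_mem _ hn hz.2) (Subgroup.inv_mem _ hn)
  have e1 : chi7 (⟨_, hH⟩ : ↥(chevG2.diagonalSubgroup K)) = chi7 (⟨z, hz.1⟩ : ↥(chevG2.diagonalSubgroup K))⁻¹ := by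
    have e2 := chi_conj_G2 (s := 4) (r := 7) (by decide) (by decide) (by decide +kernel) ⟨z, hz.1⟩ hH
    have e3 := good3G2.toGood2.chi_neg ⟨z, hz.1⟩ (r := 7) (by decide) (by decide)
    rw [map_inv]
    exact e2.trans e3
  have := eq_of_chi7 hperf φ (z := ⟨_, hH⟩) (z' := (⟨z, hz.1⟩ : ↥(chevG2.diagonalSubgroup K))⁻¹) hf (Subgroup.inv_mem _ hz.2) e1
  exact congrArg Subtype.val this

lemma H_mul_n0 (hφ : ∀ x, φ (φ (x ^ 3)) = x) {z : GL chevG2.Idx K} (hz : z ∈ HfG2 hperf φ) : z * n0G2 = n0G2 * z⁻¹ := by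
  have e := n0_conj_H hφ hz
  rw [n0G2_inv] at e
  rw [← e]
  have h := n0G2_sq (K := K)
  calc z * n0G2 = (n0G2 * n0G2) * z * n0G2 := by rw [h, one_mul]
    _ = n0G2 * (n0G2 * z * n0G2) := by group

/-- The representative does not lie in the Borel subgroup. -/
lemma n0_not_borel : (n0G2 : GL chevG2.Idx K) ∉ chevG2.borelSubgroup K := by
  intro h
  have hx := good3G2.toGood2.xU_mem_U (F := K) (r := 7) (by decide) (by decide) 1
  have h1 := borel_normalizes h hx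
  have h2 := n0_conj_U hx
  have h3 : (n0G2 : GL chevG2.Idx K) * good3G2.toGood2.xU (r := 7) (by decide) 1 * n0G2⁻¹ ∈ chevG2.borelSubgroup K ⊓ chevG2.negUnipotent K :=
    ⟨Tbl.Good2.le_borel_U h1, h2⟩
  rw [good3G2.toGood2.borel_inf_V, Subgroup.mem_bot] at h3
  have h4 : good3G2.toGood2.xU (F := K) (r := 7) (by decide) 1 = 1 := by
    have e : good3G2.toGood2.xU (F := K) (r := 7) (by decide) 1 = n0G2⁻¹ * (n0G2 * good3G2.toGood2.xU (r := 7) (by decide) 1 * n0G2⁻¹) * n0G2 := by group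
    rw [e, h3]
    group
  exact good3G2.toGood2.xU_ne_one (by decide) one_ne_zero h4

/-- The subgroup of the fixed points of the diagonal subgroup formed by the values `e/φ(e)`. -/
def H2G2 (hperf : ∀ x : K, ∃ y : K, y ^ 3 = x) (φ : K ≃+* K) : Subgroup (GL chevG2.Idx K) where
  carrier := {z | ∃ h : z ∈ HfG2 hperf φ, ∃ e : K, e ≠ 0 ∧ (chi7 ⟨z, h.1⟩ : K) = e * (φ e)⁻¹}
  one_mem' := by
    refine ⟨Subgroup.one_mem _, 1, one_ne_zero, ?_⟩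
    have : chi7 (⟨1, (Subgroup.one_mem _ : (1 : GL chevG2.Idx K) ∈ HfG2 hperf φ).1⟩ : ↥(chevG2.diagonalSubgroup K)) = 1 := map_one _
    rw [this]
    simp
  mul_mem' := by
    rintro a b ⟨ha, e, he, hae⟩ ⟨hb, f, hf, hbf⟩
    refine ⟨Subgroup.mul_mem _ ha hb, e * f, mul_ne_zero he hf, ?_⟩
    have : chi7 (⟨a * b, (Subgroup.mul_mem _ ha hb).1⟩ : ↥(chevG2.diagonalSubgroup K)) = chi7 ⟨a, ha.1⟩ * chi7 ⟨b, hb.1⟩ :=
      map_mul chi7 (⟨a, ha.1⟩ : ↥(chevG2.diagonalSubgroup K)) ⟨b, hb.1⟩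
    rw [this, Units.val_mul, hae, hbf, map_mul, mul_inv]
    ring
  inv_mem' := by
    rintro a ⟨ha, e, he, hae⟩
    refine ⟨Subgroup.inv_mem _ ha, e⁻¹, inv_ne_zero he, ?_⟩
    have : chi7 (⟨a⁻¹, (Subgroup.inv_mem _ ha).1⟩ : ↥(chevG2.diagonalSubgroup K)) = (chi7 ⟨a, ha.1⟩)⁻¹ :=
      map_inv chi7 (⟨a, ha.1⟩ : ↥(chevG2.diagonalSubgroup K))
    rw [this, Units.val_inv_eq_inv_val, hae, map_inv₀, mul_inv, inv_inv]

/-- The product of the three elements of the rank one group. -/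
lemma nn_form (hφ : ∀ x, φ (φ (x ^ 3)) = x) {e : K} (he : e ≠ 0) :
    ∃ z ∈ H2G2 hperf φ, nnG2 φ e = z * n0G2 := by
  have hzH : h8 ((map_ne_zero φ).2 he) * h10 he ∈ chevG2.diagonalSubgroup K :=
    Subgroup.mul_mem _ (good3G2.toGood2.hU_mem _ _) (good3G2.toGood2.hU_mem _ _)
  have hnn : ∀ c : K, nnG2 φ c ∈ (twG2 hperf φ).fix := fun c =>
    Subgroup.mul_mem _ (Subgroup.mul_mem _ (reeU_fix hperf φ hφ _ _ _) (reeV_fix hperf φ hφ _ _ _)) (reeU_fix hperf φ hφ _ _ _)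
  have hzf : h8 ((map_ne_zero φ).2 he) * h10 he ∈ (twG2 hperf φ).fix := by
    rw [← nn_mul_inv φ he]
    exact Subgroup.mul_mem _ (hnn e) (Subgroup.inv_mem _ (hnn 1))
  refine ⟨_, ⟨⟨hzH, hzf⟩, e, he, chi7_z φ he hzH⟩, ?_⟩
  rw [← nn_mul_inv φ he, nnG2_one_eq φ]
  group

/-- The conjugate of the second layer under the representative. -/
lemma V_form (hφ : ∀ x, φ (φ (x ^ 3)) = x) {d : K} (hd : d ≠ 0) :
    ∃ z ∈ H2G2 hperf φ, n0G2 * ruG2 φ d * n0G2 = ruG2 φ (-d⁻¹) * (z * n0G2) * ruG2 φ (-d⁻¹) := by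
  obtain ⟨z, hz, e⟩ := nn_form (hperf := hperf) hφ (inv_ne_zero hd)
  refine ⟨z, hz, ?_⟩
  rw [← e]
  unfold nnG2
  have e2 : reeV φ 0 d⁻¹⁻¹ 0 = n0G2 * ruG2 φ d * n0G2 := by
    rw [inv_inv]
    unfold reeV ruG2
    rw [n0G2_inv]
  rw [e2]
  have e3 : ruG2 φ (-d⁻¹) * ruG2 φ d⁻¹ = 1 := by
    rw [ru_mul hφ, neg_add_cancel, ru_zero]
  have e4 : ruG2 φ d⁻¹ * ruG2 φ (-d⁻¹) = 1 := by
    rw [ru_mul hφ, add_neg_cancel, ru_zero]
  show _ = ruG2 φ (-d⁻¹) * (ruG2 φ d⁻¹ * (n0G2 * ruG2 φ d * n0G2) * ruG2 φ d⁻¹) * ruG2 φ (-d⁻¹)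
  generalize n0G2 * ruG2 φ d * n0G2 = w at *
  have e5 : ruG2 φ (-d⁻¹) = (ruG2 φ d⁻¹)⁻¹ := (ru_inv hφ _).symm
  rw [e5]
  group

/-- The normal forms of the elements of the subgroup. -/
def InYG2 (hperf : ∀ x : K, ∃ y : K, y ^ 3 = x) (φ : K ≃+* K) (g : GL chevG2.Idx K) : Prop :=
  (∃ c, ∃ h ∈ H2G2 hperf φ, g = ruG2 φ c * h) ∨ (∃ c d, ∃ h ∈ H2G2 hperf φ, g = ruG2 φ c * n0G2 * (ruG2 φ d * h))

/-- The subgroup generated by the second layer, the representative and the values. -/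
def YG2 (hperf : ∀ x : K, ∃ y : K, y ^ 3 = x) (φ : K ≃+* K) : Subgroup (GL chevG2.Idx K) :=
  Subgroup.closure ({g | ∃ c, g = ruG2 φ c} ∪ {n0G2} ∪ (H2G2 hperf φ : Set (GL chevG2.Idx K)))

lemma inY_ru (hφ : ∀ x, φ (φ (x ^ 3)) = x) {g : GL chevG2.Idx K} (hg : InYG2 hperf φ g) (e : K) : InYG2 hperf φ (g * ruG2 φ e) := by
  rcases hg with ⟨c, h, hh, rfl⟩ | ⟨c, d, h, hh, rfl⟩
  · left
    refine ⟨c + chi10 ⟨h, hh.1.1⟩ * e, h, hh, ?_⟩
    rw [mul_assoc, conj_ru hφ hh.1, ← mul_assoc, ru_mul hφ]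
  · right
    refine ⟨c, d + chi10 ⟨h, hh.1.1⟩ * e, h, hh, ?_⟩
    rw [mul_assoc, mul_assoc (ruG2 φ d), conj_ru hφ hh.1, ← mul_assoc (ruG2 φ d), ru_mul hφ]

lemma inY_h {g h' : GL chevG2.Idx K} (hg : InYG2 hperf φ g) (hh' : h' ∈ H2G2 hperf φ) : InYG2 hperf φ (g * h') := by
  rcases hg with ⟨c, h, hh, rfl⟩ | ⟨c, d, h, hh, rfl⟩
  · left
    exact ⟨c, h * h', Subgroup.mul_mem _ hh hh', by group⟩
  · right
    exact ⟨c, d, h * h', Subgroup.mul_mem _ hh hh', by group⟩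

lemma inY_n (hφ : ∀ x, φ (φ (x ^ 3)) = x) {g : GL chevG2.Idx K} (hg : InYG2 hperf φ g) : InYG2 hperf φ (g * n0G2) := by
  rcases hg with ⟨c, h, hh, rfl⟩ | ⟨c, d, h, hh, rfl⟩
  · right
    refine ⟨c, 0, h⁻¹, Subgroup.inv_mem _ hh, ?_⟩
    rw [ru_zero, one_mul, mul_assoc, H_mul_n0 hφ hh.1, mul_assoc]
  · rw [mul_assoc, mul_assoc (ruG2 φ d), H_mul_n0 hφ hh.1]
    by_cases hd : d = 0
    · left
      refine ⟨c, h⁻¹, Subgroup.inv_mem _ hh, ?_⟩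
      subst hd
      rw [ru_zero, one_mul, mul_assoc, ← mul_assoc n0G2, n0G2_sq, one_mul]
    · right
      obtain ⟨z, hz, e⟩ := V_form (hperf := hperf) hφ hd
      have e1 : ruG2 φ c * n0G2 * (ruG2 φ d * (n0G2 * h⁻¹)) = ruG2 φ c * (n0G2 * ruG2 φ d * n0G2) * h⁻¹ := by group
      rw [e1, e]
      have e2 := H_mul_n0 hφ hz.1
      refine ⟨c + -d⁻¹, chi10 ⟨z⁻¹, (Subgroup.inv_mem _ hz).1.1⟩ * (-d⁻¹), z⁻¹ * h⁻¹, Subgroup.mul_mem _ (Subgroup.inv_mem _ hz) (Subgroup.inv_mem _ hh), ?_⟩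
      rw [e2, ← mul_assoc (ruG2 φ _) (z⁻¹) (h⁻¹), ← conj_ru hφ (Subgroup.inv_mem _ hz).1, ← ru_mul hφ c]
      group

/-- The normal form. -/
theorem Y_form (hφ : ∀ x, φ (φ (x ^ 3)) = x) {g : GL chevG2.Idx K} (hg : g ∈ YG2 hperf φ) : InYG2 hperf φ g := by
  induction hg using Subgroup.closure_induction_right with
  | one => exact Or.inl ⟨0, 1, Subgroup.one_mem _, by rw [ru_zero, one_mul]⟩
  | mul_right x _ y hy ih =>
    rcases hy with (⟨c, rfl⟩ | hy) | hy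
    · exact inY_ru hφ ih c
    · rw [Set.mem_singleton_iff.1 hy]
      exact inY_n hφ ih
    · exact inY_h ih hy
  | mul_inv_cancel x _ y hy ih =>
    rcases hy with (⟨c, rfl⟩ | hy) | hy
    · rw [ru_inv hφ]
      exact inY_ru hφ ih _
    · rw [Set.mem_singleton_iff.1 hy, n0G2_inv]
      exact inY_n hφ ih
    · exact inY_h ih (Subgroup.inv_mem _ hy)

lemma ru_mem_Y (c : K) : ruG2 φ c ∈ YG2 hperf φ := Subgroup.subset_closure (Or.inl (Or.inl ⟨c, rfl⟩))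
lemma n0_mem_Y : n0G2 ∈ YG2 hperf φ := Subgroup.subset_closure (Or.inl (Or.inr rfl))
lemma H2_mem_Y {h : GL chevG2.Idx K} (hh : h ∈ H2G2 hperf φ) : h ∈ YG2 hperf φ := Subgroup.subset_closure (Or.inr hh)

lemma Y_le_fix (hφ : ∀ x, φ (φ (x ^ 3)) = x) : YG2 hperf φ ≤ (twG2 hperf φ).fix := by
  refine (Subgroup.closure_le _).2 ?_
  rintro g ((⟨c, rfl⟩ | hy) | hy)
  · exact reeU_fix hperf φ hφ _ _ _
  · rw [Set.mem_singleton_iff.1 hy]
    exact n0G2_fix hperf φ hφ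
  · exact hy.1.2

/-- The form of the elements of the fixed points of the Borel subgroup. -/
theorem borel_form (hφ : ∀ x, φ (φ (x ^ 3)) = x) {g : GL chevG2.Idx K} (hg : g ∈ chevG2.borelSubgroup K) (hgf : g ∈ (twG2 hperf φ).fix) :
    ∃ u ∈ UfG2 hperf φ, ∃ h ∈ HfG2 hperf φ, g = u * h := by
  obtain ⟨a, ha, haf, m, hmf, c, hc, hcf, e⟩ := (twG2 hperf φ).fix_canon hgf
  have hcU : c ∈ chevG2.posUnipotent K := Tbl.Good2.rootsGen_pos_le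
    (fun r hr => (good3G2.toGood2.isPos_iff hr.1).2 hr.2.1) hc
  have hB : ∀ x ∈ chevG2.posUnipotent K, x ∈ chevG2.borelSubgroup K := fun x hx => Tbl.Good2.le_borel_U hx
  have hB' : ∀ x ∈ chevG2.diagonalSubgroup K, x ∈ chevG2.borelSubgroup K := fun x hx => Tbl.Good2.le_borel_H hx
  rcases N_fix_cases hperf φ hφ m.2 hmf with h | ⟨h, hh, hhf, e2⟩
  · refine ⟨a * ((m : GL chevG2.Idx K) * c * (m : GL chevG2.Idx K)⁻¹), ⟨Subgroup.mul_mem _ ha ?_, Subgroup.mul_mem _ haf ?_⟩, m, ⟨h, hmf⟩, ?_⟩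
    · exact borel_normalizes (hB' _ h) hcU
    · exact Subgroup.mul_mem _ (Subgroup.mul_mem _ hmf hcf) (Subgroup.inv_mem _ hmf)
    · rw [e]
      group
  · exfalso
    apply n0_not_borel (K := K)
    have e3 : (n0G2 : GL chevG2.Idx K) = h⁻¹ * (a⁻¹ * g * c⁻¹) := by
      rw [e, e2]
      group
    rw [e3]
    exact Subgroup.mul_mem _ (Subgroup.inv_mem _ (hB' _ hh)) (Subgroup.mul_mem _ (Subgroup.mul_mem _ (Subgroup.inv_mem _ (hB _ ha)) hg) (Subgroup.inv_mem _ (hB _ hcU)))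

end

end Cfsg.Agent.Lib.Chev
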