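/-
The group ²G₂(q): the centraliser of an involution of `H¹`.
-/
import Cfsg.Agent.Lib.Coll.G2CA

set_option autoImplicit false
set_option maxRecDepth 100000

namespace Cfsg.Agent.Lib.Chev

open Cfsg.Lie

section

variable {K : Type*} [Field K] [CharP K 3] {hperf : ∀ x : K, ∃ y : K, y ^ 3 = x} {φ : K ≃+* K}

/-- An involution of the fixed points of the diagonal subgroup. -/
structure IsInvG2 (hperf : ∀ x : K, ∃ y : K, y ^ 3 = x) (φ : K ≃+* K) (a : GL chevG2.Idx K) : Prop where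
  mem : a ∈ HfG2 hperf φ
  ne : a ≠ 1
  sq : a * a = 1

lemma phiphi_cube (hφ : ∀ x, φ (φ (x ^ 3)) = x) (x : K) : (φ (φ x)) ^ 3 = x := by
  rw [← map_pow, ← map_pow]
  exact hφ x

lemma cube_eq_of_phi (hφ : ∀ x, φ (φ (x ^ 3)) = x) {x : K} (h : φ (φ x) = x) : x ^ 3 = x := by
  have := phiphi_cube hφ x
  rwa [h] at this

omit [CharP K 3] in
lemma sq_one_of_cube {x : K} (h0 : x ≠ 0) (h : x ^ 3 = x) : x = 1 ∨ x = -1 := by
  have h1 : x * ((x - 1) * (x + 1)) = 0 := by linear_combination h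
  rcases mul_eq_zero.1 h1 with h3 | h3
  · exact absurd h3 h0
  · rcases mul_eq_zero.1 h3 with h4 | h4
    · left; linear_combination h4
    · right; linear_combination h4

lemma two_ne_K : (2 : K) ≠ 0 := by
  intro h
  have h3 := three_eq_zero (K := K)
  have : (1 : K) = 0 := by linear_combination h3 - h
  exact one_ne_zero this

lemma neg_one_ne_one_K : (-1 : K) ≠ 1 := by
  intro h
  apply two_ne_K (K := K)
  linear_combination -h

/-- `-1` is not a value of `e/φ(e)`. -/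
lemma neg_one_not_val (hφ : ∀ x, φ (φ (x ^ 3)) = x) {e : K} (he : e ≠ 0) : e * (φ e)⁻¹ ≠ -1 := by
  intro h
  have hφe : φ e ≠ 0 := (map_ne_zero φ).2 he
  have h1 : φ e = -e := by
    field_simp at h
    linear_combination h
  have h3 : φ (φ e) = e := by rw [h1, map_neg, h1, neg_neg]
  rcases sq_one_of_cube he (cube_eq_of_phi hφ h3) with h4 | h4
  · rw [h4, map_one] at h1
    exact neg_one_ne_one_K (K := K) h1.symm
  · rw [h4, map_neg, map_one, neg_neg] at h1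
    exact neg_one_ne_one_K (K := K) h1

/-- Squares are values of `e/φ(e)`. -/
lemma sq_is_val (hφ : ∀ x, φ (φ (x ^ 3)) = x) {r : K} (hr : r ≠ 0) :
    ∃ e : K, e ≠ 0 ∧ r ^ 2 = e * (φ e)⁻¹ := by
  have hφr : φ r ≠ 0 := (map_ne_zero φ).2 hr
  refine ⟨r ^ 3 * (φ r) ^ 3, mul_ne_zero (pow_ne_zero _ hr) (pow_ne_zero _ hφr), ?_⟩
  have e1 : φ (r ^ 3 * (φ r) ^ 3) = (φ r) ^ 3 * r := by
    rw [map_mul, map_pow, map_pow, phiphi_cube hφ]
  rw [e1]
  field_simp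

variable {a : GL chevG2.Idx K}

lemma chi7_inv (ha : IsInvG2 hperf φ a) : (chi7 (⟨a, ha.mem.1⟩ : ↥(chevG2.diagonalSubgroup K)) : K) = -1 := by
  have h1 : chi7 (⟨a, ha.mem.1⟩ : ↥(chevG2.diagonalSubgroup K)) * chi7 (⟨a, ha.mem.1⟩ : ↥(chevG2.diagonalSubgroup K)) = 1 := by
    rw [← map_mul]
    have : ((⟨a, ha.mem.1⟩ : ↥(chevG2.diagonalSubgroup K)) * ⟨a, ha.mem.1⟩ : ↥(chevG2.diagonalSubgroup K)) = 1 := Subtype.ext ha.sq
    rw [this, map_one]
  have h2 : ((chi7 (⟨a, ha.mem.1⟩ : ↥(chevG2.diagonalSubgroup K)) : Kˣ) : K) * (chi7 (⟨a, ha.mem.1⟩ : ↥(chevG2.diagonalSubgroup K)) : Kˣ) = 1 := by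
    have := congrArg Units.val h1
    simpa using this
  rcases mul_self_eq_one_iff.1 h2 with h | h
  · exfalso
    apply ha.ne
    have := eq_of_chi7 hperf φ (z := ⟨a, ha.mem.1⟩) (z' := 1) ha.mem.2 (Subgroup.one_mem _) (by rw [map_one]; exact Units.ext h)
    exact congrArg Subtype.val this
  · exact h

lemma a_inv (ha : IsInvG2 hperf φ a) : a⁻¹ = a := inv_eq_of_mul_eq_one_left ha.sq

lemma a_reeU (hφ : ∀ x, φ (φ (x ^ 3)) = x) (ha : IsInvG2 hperf φ a) (t u v : K) :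
    a * reeU φ t u v = reeU φ (-t) u (-v) * a := by
  have e := conj_reeU hperf φ hφ (z := ⟨a, ha.mem.1⟩) ha.mem.2 t u v
  have h7 := chi7_inv ha
  have h6 := chi6_fix hperf φ (z := ⟨a, ha.mem.1⟩) ha.mem.2
  rw [h7] at h6
  have h6' : (chi6 (⟨a, ha.mem.1⟩ : ↥(chevG2.diagonalSubgroup K)) : K) = -1 := by
    rw [h6]
    have : (-1 : K) ^ 3 = -1 := by ring
    rw [this, map_neg, map_one]
  obtain ⟨-, -, h10, h11⟩ := chi_rel (⟨a, ha.mem.1⟩ : ↥(chevG2.diagonalSubgroup K))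
  rw [h7, h6'] at h10 h11
  have h10' : (chi10 (⟨a, ha.mem.1⟩ : ↥(chevG2.diagonalSubgroup K)) : K) = 1 := by rw [h10]; ring
  have h11' : (chi11 (⟨a, ha.mem.1⟩ : ↥(chevG2.diagonalSubgroup K)) : K) = -1 := by rw [h11]; ring
  rw [h6', h10', h11'] at e
  simp only [neg_mul, one_mul] at e
  rw [← e]
  show a * _ = a * _ * a⁻¹ * a
  group

lemma a_comm_ru (hφ : ∀ x, φ (φ (x ^ 3)) = x) (ha : IsInvG2 hperf φ a) (c : K) : a * ruG2 φ c = ruG2 φ c * a := by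
  unfold ruG2
  rw [a_reeU hφ ha]
  simp

lemma a_comm_n0 (hφ : ∀ x, φ (φ (x ^ 3)) = x) (ha : IsInvG2 hperf φ a) : a * n0G2 = n0G2 * a := by
  have := H_mul_n0 hφ ha.mem
  rwa [a_inv ha] at this

lemma a_comm_H (ha : IsInvG2 hperf φ a) {z : GL chevG2.Idx K} (hz : z ∈ chevG2.diagonalSubgroup K) : a * z = z * a :=
  diagSub_comm (good3G2.toGood2.diagonalSubgroup_le ha.mem.1) (good3G2.toGood2.diagonalSubgroup_le hz)

lemma comm_U_form (hφ : ∀ x, φ (φ (x ^ 3)) = x) (ha : IsInvG2 hperf φ a) {u : GL chevG2.Idx K} (hu : u ∈ UfG2 hperf φ)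
    (h : a * u = u * a) : ∃ c, u = ruG2 φ c := by
  obtain ⟨t, c, v, rfl⟩ := (mem_U_fix_iff hperf φ hφ).1 hu
  rw [a_reeU hφ ha] at h
  obtain ⟨h1, -, h3⟩ := reeU_inj φ (mul_right_cancel h)
  have h2 := two_ne_K (K := K)
  have ht : t = 0 := by
    have : 2 * t = 0 := by linear_combination -h1
    exact (mul_eq_zero.1 this).resolve_left h2
  have hv : v = 0 := by
    have : 2 * v = 0 := by linear_combination -h3
    exact (mul_eq_zero.1 this).resolve_left h2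
  exact ⟨c, by rw [ht, hv]; rfl⟩

/-- The involution does not lie in the subgroup. -/
theorem a_not_Y (hφ : ∀ x, φ (φ (x ^ 3)) = x) (ha : IsInvG2 hperf φ a) : a ∉ YG2 hperf φ := by
  intro hY
  have hB : ∀ x ∈ chevG2.posUnipotent K, x ∈ chevG2.borelSubgroup K := fun x hx => Tbl.Good2.le_borel_U hx
  have hB' : ∀ x ∈ chevG2.diagonalSubgroup K, x ∈ chevG2.borelSubgroup K := fun x hx => Tbl.Good2.le_borel_H hx
  rcases Y_form hφ hY with ⟨c, h, hh, e⟩ | ⟨c, d, h, hh, e⟩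
  · have h1 : ruG2 φ c = a * h⁻¹ := by rw [e]; group
    have h2 : ruG2 φ c ∈ chevG2.posUnipotent K ⊓ chevG2.diagonalSubgroup K :=
      ⟨(ru_mem hφ c (hperf := hperf)).1, by
        rw [h1]
        exact Subgroup.mul_mem _ ha.mem.1 (Subgroup.inv_mem _ hh.1.1)⟩
    rw [good3G2.toGood2.U_inf_H, Subgroup.mem_bot] at h2
    rw [h2, one_mul] at e
    subst e
    obtain ⟨_, f, hf, hfe⟩ := hh
    have h7 := chi7_inv ha
    exact neg_one_not_val hφ hf (hfe.symm.trans h7)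
  · apply n0_not_borel (K := K)
    have e3 : (n0G2 : GL chevG2.Idx K) = (ruG2 φ c)⁻¹ * a * (ruG2 φ d * h)⁻¹ := by
      rw [e]
      group
    rw [e3]
    refine Subgroup.mul_mem _ (Subgroup.mul_mem _ (Subgroup.inv_mem _ (hB _ (ru_mem hφ c (hperf := hperf)).1)) (hB' _ ha.mem.1)) (Subgroup.inv_mem _ (Subgroup.mul_mem _ (hB _ (ru_mem hφ d (hperf := hperf)).1) (hB' _ hh.1.1)))

lemma a_mem_fix (ha : IsInvG2 hperf φ a) : a ∈ (twG2 hperf φ).fix := ha.mem.2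

/-- Every element of the fixed points of the diagonal subgroup lies in the value subgroup up to the involution. -/
lemma H_split (hφ : ∀ x, φ (φ (x ^ 3)) = x) (hsq : ∀ s : K, s ≠ 0 → ∃ r : K, r ≠ 0 ∧ (s = r ^ 2 ∨ s = -r ^ 2))
    (ha : IsInvG2 hperf φ a) {z : GL chevG2.Idx K} (hz : z ∈ HfG2 hperf φ) : z ∈ H2G2 hperf φ ∨ a * z ∈ H2G2 hperf φ := by
  obtain ⟨r, hr, h⟩ := hsq _ (Units.ne_zero (chi7 (⟨z, hz.1⟩ : ↥(chevG2.diagonalSubgroup K))))
  obtain ⟨e, he, hee⟩ := sq_is_val hφ hr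
  rcases h with h | h
  · left
    exact ⟨hz, e, he, h.trans hee⟩
  · right
    have haz : a * z ∈ HfG2 hperf φ := Subgroup.mul_mem _ ha.mem hz
    refine ⟨haz, e, he, ?_⟩
    have e1 : chi7 (⟨a * z, haz.1⟩ : ↥(chevG2.diagonalSubgroup K)) = chi7 ⟨a, ha.mem.1⟩ * chi7 ⟨z, hz.1⟩ :=
      map_mul chi7 (⟨a, ha.mem.1⟩ : ↥(chevG2.diagonalSubgroup K)) ⟨z, hz.1⟩
    rw [e1, Units.val_mul, chi7_inv ha, h, ← hee]
    ring

/-- The elements commuting with the involution. -/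
theorem C_form (hφ : ∀ x, φ (φ (x ^ 3)) = x) (hsq : ∀ s : K, s ≠ 0 → ∃ r : K, r ≠ 0 ∧ (s = r ^ 2 ∨ s = -r ^ 2))
    (ha : IsInvG2 hperf φ a) {g : GL chevG2.Idx K} (hg : g ∈ (twG2 hperf φ).fix) (hc : a * g = g * a) :
    g ∈ YG2 hperf φ ∨ a * g ∈ YG2 hperf φ := by
  have hB : ∀ x ∈ chevG2.posUnipotent K, x ∈ chevG2.borelSubgroup K := fun x hx => Tbl.Good2.le_borel_U hx
  have hB' : ∀ x ∈ chevG2.diagonalSubgroup K, x ∈ chevG2.borelSubgroup K := fun x hx => Tbl.Good2.le_borel_H hx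
  have hUH : ∀ {u : GL chevG2.Idx K}, u ∈ chevG2.posUnipotent K → u * a * u⁻¹ * a⁻¹ ∈ chevG2.posUnipotent K := by
    intro u hu
    have h1 : a * u⁻¹ * a⁻¹ ∈ chevG2.posUnipotent K := borel_normalizes (hB' _ ha.mem.1) (Subgroup.inv_mem _ hu)
    have e : u * a * u⁻¹ * a⁻¹ = u * (a * u⁻¹ * a⁻¹) := by group
    rw [e]
    exact Subgroup.mul_mem _ hu h1
  rcases fix_bruhat hperf φ hφ hg with hgB | ⟨u, hu, b, hb, rfl⟩
  · obtain ⟨u, hu, z, hz, rfl⟩ := borel_form hφ hgB hg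
    have hau : a * u = u * a := by
      have : a * u * z = u * a * z := by
        calc a * u * z = a * (u * z) := by group
          _ = u * z * a := hc
          _ = u * (z * a) := by group
          _ = u * (a * z) := by rw [a_comm_H ha hz.1]
          _ = u * a * z := by group
      exact mul_right_cancel this
    obtain ⟨c, rfl⟩ := comm_U_form hφ ha hu hau
    rcases H_split hφ hsq ha hz with h | h
    · exact Or.inl (Subgroup.mul_mem _ (ru_mem_Y c) (H2_mem_Y h))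
    · right
      have e : a * (ruG2 φ c * z) = ruG2 φ c * (a * z) := by
        rw [← mul_assoc, a_comm_ru hφ ha, mul_assoc]
      rw [e]
      exact Subgroup.mul_mem _ (ru_mem_Y c) (H2_mem_Y h)
  · obtain ⟨u₂, hu₂, z, hz, rfl⟩ := borel_form hφ hb.1 hb.2
    have hn := a_comm_n0 hφ ha
    have h1 : u * n0G2 * u₂ * a = a * (u * n0G2 * u₂) := by
      have : u * n0G2 * u₂ * a * z = a * (u * n0G2 * u₂) * z := by
        calc u * n0G2 * u₂ * a * z = u * n0G2 * u₂ * (a * z) := by group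
          _ = u * n0G2 * u₂ * (z * a) := by rw [a_comm_H ha hz.1]
          _ = (u * n0G2 * (u₂ * z)) * a := by group
          _ = a * (u * n0G2 * (u₂ * z)) := hc.symm
          _ = a * (u * n0G2 * u₂) * z := by group
      exact mul_right_cancel this
    have h2 : n0G2 * u₂ * a * u₂⁻¹ * n0G2⁻¹ = u⁻¹ * a * u := by
      calc n0G2 * u₂ * a * u₂⁻¹ * n0G2⁻¹ = u⁻¹ * (u * n0G2 * u₂ * a) * u₂⁻¹ * n0G2⁻¹ := by group
        _ = u⁻¹ * (a * (u * n0G2 * u₂)) * u₂⁻¹ * n0G2⁻¹ := by rw [h1]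
        _ = u⁻¹ * a * u := by group
    have h3 : n0G2 * a⁻¹ * n0G2⁻¹ = a⁻¹ := by
      rw [a_inv ha, ← hn]
      group
    have h4 : n0G2 * (u₂ * a * u₂⁻¹ * a⁻¹) * n0G2⁻¹ = u⁻¹ * a * u * a⁻¹ := by
      calc n0G2 * (u₂ * a * u₂⁻¹ * a⁻¹) * n0G2⁻¹ = (n0G2 * u₂ * a * u₂⁻¹ * n0G2⁻¹) * (n0G2 * a⁻¹ * n0G2⁻¹) := by group
        _ = u⁻¹ * a * u * a⁻¹ := by rw [h2, h3]
    have hw : n0G2 * (u₂ * a * u₂⁻¹ * a⁻¹) * n0G2⁻¹ ∈ chevG2.borelSubgroup K ⊓ chevG2.negUnipotent K :=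
      ⟨by
        rw [h4]
        exact hB _ (hUH (Subgroup.inv_mem _ hu.1) |> fun h => by simpa using h),
       n0_conj_U (hUH hu₂.1)⟩
    rw [good3G2.toGood2.borel_inf_V, Subgroup.mem_bot] at hw
    have h5 : u⁻¹ * a * u * a⁻¹ = 1 := by rw [← h4, hw]
    have h6 : u₂ * a * u₂⁻¹ * a⁻¹ = 1 := by
      have e : u₂ * a * u₂⁻¹ * a⁻¹ = n0G2⁻¹ * (n0G2 * (u₂ * a * u₂⁻¹ * a⁻¹) * n0G2⁻¹) * n0G2 := by group
      rw [e, hw]
      group
    have hau : a * u = u * a := by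
      have e : a = u * (u⁻¹ * a * u * a⁻¹) * a * u⁻¹ := by group
      rw [h5, mul_one] at e
      calc a * u = (u * a * u⁻¹) * u := by rw [← e]
        _ = u * a := by group
    have hau₂ : a * u₂ = u₂ * a := by
      have e : u₂ * a = (u₂ * a * u₂⁻¹ * a⁻¹) * a * u₂ := by group
      rw [h6, one_mul] at e
      exact e.symm
    obtain ⟨c, rfl⟩ := comm_U_form hφ ha hu hau
    obtain ⟨d, rfl⟩ := comm_U_form hφ ha hu₂ hau₂
    have hY : ruG2 φ c * n0G2 * ruG2 φ d ∈ YG2 hperf φ :=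
      Subgroup.mul_mem _ (Subgroup.mul_mem _ (ru_mem_Y c) n0_mem_Y) (ru_mem_Y d)
    rcases H_split hφ hsq ha hz with h | h
    · left
      have e : ruG2 φ c * n0G2 * (ruG2 φ d * z) = ruG2 φ c * n0G2 * ruG2 φ d * z := by group
      rw [e]
      exact Subgroup.mul_mem _ hY (H2_mem_Y h)
    · right
      have e : a * (ruG2 φ c * n0G2 * (ruG2 φ d * z)) = ruG2 φ c * n0G2 * ruG2 φ d * (a * z) := by
        calc a * (ruG2 φ c * n0G2 * (ruG2 φ d * z)) = (a * ruG2 φ c) * n0G2 * (ruG2 φ d * z) := by group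
          _ = ruG2 φ c * (a * n0G2) * (ruG2 φ d * z) := by rw [a_comm_ru hφ ha]; group
          _ = ruG2 φ c * n0G2 * (a * ruG2 φ d) * z := by rw [hn]; group
          _ = ruG2 φ c * n0G2 * ruG2 φ d * (a * z) := by rw [a_comm_ru hφ ha]; group
      rw [e]
      exact Subgroup.mul_mem _ hY (H2_mem_Y h)

end

end Cfsg.Agent.Lib.Chev
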