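/-
The group ²G₂(q): the subgroup `Y` is `PSL₂(q)`.
-/
import Cfsg.Agent.Lib.Coll.G2CB
import Cfsg.Agent.Lib.SmallSimple.Mobius
import Cfsg.Agent.Lib.Classical.PSL2Klein

set_option autoImplicit false
set_option maxRecDepth 100000

namespace Cfsg.Agent.Lib.SmallSimple

open Matrix OnePoint
open scoped MatrixGroups

variable {F : Type*} [Field F] [DecidableEq F]

/-- Recognition of `PSL(2,F)` from a faithful action on the line, with the upper bound of the order. -/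
theorem nonempty_psl_of_le [Fintype F] {G : Type*} [Group G] [Finite G]
    (ρ : G →* Equiv.Perm (OnePoint F)) (hρ : Function.Injective ρ)
    (hτ : ∀ b : F, ∃ r ∈ ρ.range, r ∞ = ∞ ∧ ∀ i : F, r (i : OnePoint F) = ((i + b : F) : OnePoint F))
    (hm : ∀ a : F, a ≠ 0 → ∃ r ∈ ρ.range, r ∞ = ∞ ∧ ∀ i : F, r (i : OnePoint F) = ((a ^ 2 * i : F) : OnePoint F))
    (hι : ∃ r ∈ ρ.range, r ∞ = ((0 : F) : OnePoint F) ∧ r ((0 : F) : OnePoint F) = ∞ ∧
      ∀ i : F, i ≠ 0 → r (i : OnePoint F) = ((-i⁻¹ : F) : OnePoint F))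
    (hcard : Nat.card G ≤ Nat.card (Matrix.ProjectiveSpecialLinearGroup (Fin 2) F)) :
    Nonempty (G ≃* Matrix.ProjectiveSpecialLinearGroup (Fin 2) F) := by
  have hle := range_mobius_le ρ.range hτ hm hι
  let e₁ : SL(2, F) ⧸ (mobius (F := F)).ker ≃* (mobius (F := F)).range :=
    QuotientGroup.quotientKerEquivRange _
  let e₂ : Matrix.ProjectiveSpecialLinearGroup (Fin 2) F ≃* SL(2, F) ⧸ (mobius (F := F)).ker :=
    QuotientGroup.quotientMulEquivOfEq ker_mobius.symm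
  let e₃ : G ≃* ρ.range := MonoidHom.ofInjective hρ
  have hcard2 : Nat.card ρ.range ≤ Nat.card (mobius (F := F)).range := by
    rw [← Nat.card_congr e₁.toEquiv, ← Nat.card_congr e₂.toEquiv, ← Nat.card_congr e₃.toEquiv]
    exact hcard
  have heq : (mobius (F := F)).range = ρ.range := Subgroup.eq_of_le_of_card_ge hle hcard2
  exact ⟨e₃.trans ((MulEquiv.subgroupCongr heq.symm).trans (e₁.symm.trans e₂.symm))⟩

end Cfsg.Agent.Lib.SmallSimple

namespace Cfsg.Agent.Lib.Chev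

open Cfsg.Lie OnePoint

section

variable {K : Type*} [Field K] [CharP K 3] {hperf : ∀ x : K, ∃ y : K, y ^ 3 = x} {φ : K ≃+* K}

/-- A value element of the diagonal subgroup. -/
lemma H2_exists (hφ : ∀ x, φ (φ (x ^ 3)) = x) {e : K} (he : e ≠ 0) :
    ∃ z, ∃ hz : z ∈ H2G2 hperf φ, (chi7 (⟨z, hz.1.1⟩ : ↥(chevG2.diagonalSubgroup K)) : K) = e * (φ e)⁻¹ := by
  have hzH : h8 ((map_ne_zero φ).2 he) * h10 he ∈ chevG2.diagonalSubgroup K :=
    Subgroup.mul_mem _ (good3G2.toGood2.hU_mem _ _) (good3G2.toGood2.hU_mem _ _)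
  have hnn : ∀ c : K, nnG2 φ c ∈ (twG2 hperf φ).fix := fun c =>
    Subgroup.mul_mem _ (Subgroup.mul_mem _ (reeU_fix hperf φ hφ _ _ _) (reeV_fix hperf φ hφ _ _ _)) (reeU_fix hperf φ hφ _ _ _)
  have hzf : h8 ((map_ne_zero φ).2 he) * h10 he ∈ (twG2 hperf φ).fix := by
    rw [← nn_mul_inv φ he]
    exact Subgroup.mul_mem _ (hnn e) (Subgroup.inv_mem _ (hnn 1))
  exact ⟨_, ⟨⟨hzH, hzf⟩, e, he, chi7_z φ he hzH⟩, chi7_z φ he hzH⟩

/-- The value of the character on the second layer. -/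
lemma chi10_val (hφ : ∀ x, φ (φ (x ^ 3)) = x) {z : GL chevG2.Idx K} (hz : z ∈ HfG2 hperf φ) {e : K} (he : e ≠ 0)
    (h : (chi7 (⟨z, hz.1⟩ : ↥(chevG2.diagonalSubgroup K)) : K) = e * (φ e)⁻¹) :
    (chi10 (⟨z, hz.1⟩ : ↥(chevG2.diagonalSubgroup K)) : K) = e ^ 2 := by
  obtain ⟨-, -, h10, -⟩ := chi_rel (⟨z, hz.1⟩ : ↥(chevG2.diagonalSubgroup K))
  rw [h10, chi6_fix hperf φ (z := ⟨z, hz.1⟩) hz.2, h]
  have hφe : φ e ≠ 0 := (map_ne_zero φ).2 he
  have hφφe : φ (φ e) ≠ 0 := (map_ne_zero φ).2 hφe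
  rw [map_pow, map_mul, map_inv₀, mul_pow, mul_pow, inv_pow, inv_pow, phiphi_cube hφ]
  field_simp

/-- The Borel subgroup of `Y`. -/
abbrev BYG2 (hperf : ∀ x : K, ∃ y : K, y ^ 3 = x) (φ : K ≃+* K) : Subgroup ↥(YG2 hperf φ) :=
  (chevG2.borelSubgroup K).subgroupOf (YG2 hperf φ)

/-- The second layer as elements of `Y`. -/
noncomputable def ruY (hperf : ∀ x : K, ∃ y : K, y ^ 3 = x) (φ : K ≃+* K) (c : K) : ↥(YG2 hperf φ) := ⟨ruG2 φ c, ru_mem_Y c⟩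

/-- The representative as an element of `Y`. -/
noncomputable def n0Y (hperf : ∀ x : K, ∃ y : K, y ^ 3 = x) (φ : K ≃+* K) : ↥(YG2 hperf φ) := ⟨n0G2, n0_mem_Y⟩

/-- The parametrisation of the cosets of the Borel subgroup of `Y`. -/
noncomputable def thG2 (hperf : ∀ x : K, ∃ y : K, y ^ 3 = x) (φ : K ≃+* K) (x : OnePoint K) : ↥(YG2 hperf φ) ⧸ BYG2 hperf φ :=
  OnePoint.elim x (QuotientGroup.mk 1) (fun i => QuotientGroup.mk (ruY hperf φ i * n0Y hperf φ))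

lemma thG2_infty : thG2 hperf φ ∞ = QuotientGroup.mk 1 := rfl
lemma thG2_coe (i : K) : thG2 hperf φ (i : OnePoint K) = QuotientGroup.mk (ruY hperf φ i * n0Y hperf φ) := rfl

lemma ru_mem_B (hφ : ∀ x, φ (φ (x ^ 3)) = x) (c : K) : ruG2 φ c ∈ chevG2.borelSubgroup K :=
  Tbl.Good2.le_borel_U (ru_mem hφ c (hperf := hperf_of hφ)).1

lemma H2_mem_B {h : GL chevG2.Idx K} (hh : h ∈ H2G2 hperf φ) : h ∈ chevG2.borelSubgroup K :=
  Tbl.Good2.le_borel_H hh.1.1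

lemma n0_ru_n0_of_borel (hφ : ∀ x, φ (φ (x ^ 3)) = x) {c : K} (h : (n0G2 : GL chevG2.Idx K) * ruG2 φ c * n0G2 ∈ chevG2.borelSubgroup K) : c = 0 := by
  have hV : (n0G2 : GL chevG2.Idx K) * ruG2 φ c * n0G2⁻¹ ∈ chevG2.negUnipotent K :=
    n0_conj_U (ru_mem hφ c (hperf := hperf_of hφ)).1
  rw [n0G2_inv] at hV
  have h3 : (n0G2 : GL chevG2.Idx K) * ruG2 φ c * n0G2 ∈ chevG2.borelSubgroup K ⊓ chevG2.negUnipotent K := ⟨h, hV⟩
  rw [good3G2.toGood2.borel_inf_V, Subgroup.mem_bot] at h3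
  have h4 : ruG2 φ c = 1 := by
    have e : ruG2 φ c = n0G2⁻¹ * (n0G2 * ruG2 φ c * n0G2) * n0G2⁻¹ := by group
    rw [e, h3, n0G2_inv, mul_one, n0G2_sq]
  have h5 : reeU φ 0 c 0 = reeU φ 0 0 0 := by
    rw [reeU_zero]
    exact h4
  exact (reeU_inj φ h5).2.1

lemma thG2_injective (hφ : ∀ x, φ (φ (x ^ 3)) = x) : Function.Injective (thG2 hperf φ) := by
  have hinf : ∀ i : K, thG2 hperf φ ∞ ≠ thG2 hperf φ (i : OnePoint K) := by
    intro i h
    rw [thG2_infty, thG2_coe, QuotientGroup.eq, Subgroup.mem_subgroupOf] at h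
    apply n0_not_borel (K := K)
    have e : (n0G2 : GL chevG2.Idx K) = (ruG2 φ i)⁻¹ * ((((1 : ↥(YG2 hperf φ))⁻¹ * (ruY hperf φ i * n0Y hperf φ) : ↥(YG2 hperf φ))) : GL chevG2.Idx K) := by
      show _ = (ruG2 φ i)⁻¹ * ((1 : GL chevG2.Idx K)⁻¹ * (ruG2 φ i * n0G2))
      group
    rw [e]
    exact Subgroup.mul_mem _ (Subgroup.inv_mem _ (ru_mem_B hφ i)) h
  intro x y h
  induction x using OnePoint.rec with
  | infty =>
    induction y using OnePoint.rec with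
    | infty => rfl
    | coe j => exact absurd h (hinf j)
  | coe i =>
    induction y using OnePoint.rec with
    | infty => exact absurd h.symm (hinf i)
    | coe j =>
      rw [thG2_coe, thG2_coe, QuotientGroup.eq, Subgroup.mem_subgroupOf] at h
      have e : (((ruY hperf φ i * n0Y hperf φ)⁻¹ * (ruY hperf φ j * n0Y hperf φ) : ↥(YG2 hperf φ)) : GL chevG2.Idx K) =
          n0G2 * ruG2 φ (-i + j) * n0G2 := by
        show (ruG2 φ i * n0G2)⁻¹ * (ruG2 φ j * n0G2) = _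
        rw [← ru_mul hφ, ← ru_inv hφ, mul_inv_rev, n0G2_inv]
        group
      rw [e] at h
      have h2 := n0_ru_n0_of_borel hφ h
      have : i = j := by linear_combination -h2
      rw [this]

lemma thG2_surjective (hφ : ∀ x, φ (φ (x ^ 3)) = x) : Function.Surjective (thG2 hperf φ) := by
  intro q
  induction q using QuotientGroup.induction_on with
  | H g =>
    rcases Y_form hφ g.2 with ⟨c, h, hh, e⟩ | ⟨c, d, h, hh, e⟩
    · refine ⟨∞, ?_⟩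
      rw [thG2_infty, QuotientGroup.eq, Subgroup.mem_subgroupOf]
      show (1 : GL chevG2.Idx K)⁻¹ * (g : GL chevG2.Idx K) ∈ _
      rw [e, inv_one, one_mul]
      exact Subgroup.mul_mem _ (ru_mem_B hφ c) (H2_mem_B hh)
    · refine ⟨(c : K), ?_⟩
      rw [thG2_coe, QuotientGroup.eq, Subgroup.mem_subgroupOf]
      show (ruG2 φ c * n0G2)⁻¹ * (g : GL chevG2.Idx K) ∈ _
      rw [e, inv_mul_cancel_left]
      exact Subgroup.mul_mem _ (ru_mem_B hφ d) (H2_mem_B hh)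

/-- The parametrisation as an equivalence. -/
noncomputable def thG2E (hφ : ∀ x, φ (φ (x ^ 3)) = x) : OnePoint K ≃ ↥(YG2 hperf φ) ⧸ BYG2 hperf φ :=
  Equiv.ofBijective _ ⟨thG2_injective hφ, thG2_surjective hφ⟩

/-- The action on the line. -/
noncomputable def rhoG2 (hφ : ∀ x, φ (φ (x ^ 3)) = x) : ↥(YG2 hperf φ) →* Equiv.Perm (OnePoint K) :=
  (Equiv.permCongrHom (thG2E (hperf := hperf) hφ).symm).toMonoidHom.comp (MulAction.toPermHom ↥(YG2 hperf φ) (↥(YG2 hperf φ) ⧸ BYG2 hperf φ))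

lemma rho_iff (hφ : ∀ x, φ (φ (x ^ 3)) = x) (g : ↥(YG2 hperf φ)) (x y : OnePoint K) :
    rhoG2 hφ g x = y ↔ g • thG2 hperf φ x = thG2 hperf φ y := by
  show (thG2E (hperf := hperf) hφ).symm (g • (thG2E (hperf := hperf) hφ) x) = y ↔ _
  rw [Equiv.symm_apply_eq]
  rfl

lemma rho_injective (hφ : ∀ x, φ (φ (x ^ 3)) = x) : Function.Injective (rhoG2 (hperf := hperf) hφ) := by
  rw [injective_iff_map_eq_one]
  intro g hg
  have hfix : ∀ x, g • thG2 hperf φ x = thG2 hperf φ x := fun x =>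
    (rho_iff hφ g x x).1 (by rw [hg]; rfl)
  have hgB : (g : GL chevG2.Idx K) ∈ chevG2.borelSubgroup K := by
    have h := hfix ∞
    rw [thG2_infty] at h
    have h2 : (QuotientGroup.mk (g * 1) : ↥(YG2 hperf φ) ⧸ BYG2 hperf φ) = QuotientGroup.mk 1 := h
    rw [eq_comm, QuotientGroup.eq, Subgroup.mem_subgroupOf] at h2
    simpa using h2
  rcases Y_form hφ g.2 with ⟨c, h, hh, e⟩ | ⟨c, d, h, hh, e⟩
  · have hc0 : c = 0 := by
      have h0 := hfix ((0 : K) : OnePoint K)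
      rw [thG2_coe] at h0
      have h2 : (QuotientGroup.mk (g * (ruY hperf φ 0 * n0Y hperf φ)) : ↥(YG2 hperf φ) ⧸ BYG2 hperf φ) = QuotientGroup.mk (ruY hperf φ 0 * n0Y hperf φ) := h0
      rw [eq_comm, QuotientGroup.eq, Subgroup.mem_subgroupOf] at h2
      have e1 : (((ruY hperf φ 0 * n0Y hperf φ)⁻¹ * (g * (ruY hperf φ 0 * n0Y hperf φ)) : ↥(YG2 hperf φ)) : GL chevG2.Idx K) =
          n0G2 * ruG2 φ c * n0G2 * h⁻¹ := by
        show (ruG2 φ 0 * n0G2)⁻¹ * ((g : GL chevG2.Idx K) * (ruG2 φ 0 * n0G2)) = _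
        rw [ru_zero, one_mul, n0G2_inv, e]
        have e2 := n0_conj_H hφ hh.1
        rw [n0G2_inv] at e2
        have hs := n0G2_sq (K := K)
        calc n0G2 * (ruG2 φ c * h * n0G2) = n0G2 * ruG2 φ c * (n0G2 * n0G2) * h * n0G2 := by rw [hs]; group
          _ = n0G2 * ruG2 φ c * n0G2 * (n0G2 * h * n0G2) := by group
          _ = _ := by rw [e2]
      rw [e1] at h2
      apply n0_ru_n0_of_borel hφ
      have e3 : (n0G2 : GL chevG2.Idx K) * ruG2 φ c * n0G2 = n0G2 * ruG2 φ c * n0G2 * h⁻¹ * h := by group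
      rw [e3]
      exact Subgroup.mul_mem _ h2 (H2_mem_B hh)
    subst hc0
    rw [ru_zero, one_mul] at e
    obtain ⟨_, f, hf, hfe⟩ := id hh
    have h10 := chi10_val hφ hh.1 hf hfe
    have h1 := hfix ((1 : K) : OnePoint K)
    rw [thG2_coe] at h1
    have e1 : (g : GL chevG2.Idx K) * (ruG2 φ 1 * n0G2) = ruG2 φ (f ^ 2) * n0G2 * h⁻¹ := by
      rw [e, ← mul_assoc, conj_ru hφ hh.1, h10, mul_one, mul_assoc, H_mul_n0 hφ hh.1, mul_assoc]
    have e2 : (QuotientGroup.mk (g * (ruY hperf φ 1 * n0Y hperf φ)) : ↥(YG2 hperf φ) ⧸ BYG2 hperf φ) = thG2 hperf φ ((f ^ 2 : K) : OnePoint K) := by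
      rw [thG2_coe, eq_comm, QuotientGroup.eq, Subgroup.mem_subgroupOf]
      show (ruG2 φ (f ^ 2) * n0G2)⁻¹ * ((g : GL chevG2.Idx K) * (ruG2 φ 1 * n0G2)) ∈ _
      have e6 : (ruG2 φ (f ^ 2) * n0G2)⁻¹ * (ruG2 φ (f ^ 2) * n0G2 * h⁻¹) = h⁻¹ := by group
      rw [e1, e6]
      exact Subgroup.inv_mem _ (H2_mem_B hh)
    have e3 : thG2 hperf φ ((f ^ 2 : K) : OnePoint K) = thG2 hperf φ ((1 : K) : OnePoint K) := by
      rw [← e2]
      exact h1
    have e4 := OnePoint.coe_injective (thG2_injective hφ e3)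
    have e5 : φ f = f := by
      have h3 : (f - 1) * (f + 1) = 0 := by linear_combination e4
      rcases mul_eq_zero.1 h3 with h4 | h4
      · have : f = 1 := by linear_combination h4
        rw [this, map_one]
      · have : f = -1 := by linear_combination h4
        rw [this, map_neg, map_one]
    rw [e5, mul_inv_cancel₀ hf] at hfe
    have e6 := eq_of_chi7 hperf φ (z := ⟨h, hh.1.1⟩) (z' := 1) hh.1.2 (Subgroup.one_mem _) (by rw [map_one]; exact Units.ext hfe)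
    apply Subtype.ext
    rw [e]
    exact congrArg Subtype.val e6
  · exfalso
    apply n0_not_borel (K := K)
    have e3 : (n0G2 : GL chevG2.Idx K) = (ruG2 φ c)⁻¹ * g * (ruG2 φ d * h)⁻¹ := by
      rw [e]
      group
    rw [e3]
    exact Subgroup.mul_mem _ (Subgroup.mul_mem _ (Subgroup.inv_mem _ (ru_mem_B hφ c)) hgB)
      (Subgroup.inv_mem _ (Subgroup.mul_mem _ (ru_mem_B hφ d) (H2_mem_B hh)))

/-- The line action: translations. -/
lemma rho_trans (hφ : ∀ x, φ (φ (x ^ 3)) = x) (b : K) :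
    ∃ r ∈ (rhoG2 (hperf := hperf) hφ).range, r ∞ = ∞ ∧ ∀ i : K, r (i : OnePoint K) = ((i + b : K) : OnePoint K) := by
  refine ⟨_, ⟨ruY hperf φ b, rfl⟩, ?_, ?_⟩
  · rw [rho_iff, thG2_infty]
    show (QuotientGroup.mk (ruY hperf φ b * 1) : ↥(YG2 hperf φ) ⧸ BYG2 hperf φ) = QuotientGroup.mk 1
    rw [eq_comm, QuotientGroup.eq, Subgroup.mem_subgroupOf]
    show (1 : GL chevG2.Idx K)⁻¹ * (ruG2 φ b * 1) ∈ _
    simpa using ru_mem_B hφ b
  · intro i
    rw [rho_iff, thG2_coe, thG2_coe]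
    have e : ruY hperf φ b * (ruY hperf φ i * n0Y hperf φ) = ruY hperf φ (i + b) * n0Y hperf φ := by
      apply Subtype.ext
      show ruG2 φ b * (ruG2 φ i * n0G2) = ruG2 φ (i + b) * n0G2
      rw [← mul_assoc, ru_mul hφ, add_comm]
    exact congrArg (QuotientGroup.mk (s := BYG2 hperf φ)) e

/-- The line action: multiplications by squares. -/
lemma rho_mul (hφ : ∀ x, φ (φ (x ^ 3)) = x) (e : K) (he : e ≠ 0) :
    ∃ r ∈ (rhoG2 (hperf := hperf) hφ).range, r ∞ = ∞ ∧ ∀ i : K, r (i : OnePoint K) = ((e ^ 2 * i : K) : OnePoint K) := by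
  obtain ⟨z, hz, hze⟩ := H2_exists (hperf := hperf) hφ he
  have h10 := chi10_val hφ hz.1 he hze
  refine ⟨_, ⟨⟨z, H2_mem_Y hz⟩, rfl⟩, ?_, ?_⟩
  · rw [rho_iff, thG2_infty]
    show (QuotientGroup.mk (⟨z, H2_mem_Y hz⟩ * 1) : ↥(YG2 hperf φ) ⧸ BYG2 hperf φ) = QuotientGroup.mk 1
    rw [eq_comm, QuotientGroup.eq, Subgroup.mem_subgroupOf]
    show (1 : GL chevG2.Idx K)⁻¹ * (z * 1) ∈ _
    simpa using H2_mem_B hz
  · intro i
    rw [rho_iff, thG2_coe, thG2_coe]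
    show (QuotientGroup.mk (⟨z, H2_mem_Y hz⟩ * (ruY hperf φ i * n0Y hperf φ)) : ↥(YG2 hperf φ) ⧸ BYG2 hperf φ) = _
    rw [eq_comm, QuotientGroup.eq, Subgroup.mem_subgroupOf]
    show (ruG2 φ (e ^ 2 * i) * n0G2)⁻¹ * (z * (ruG2 φ i * n0G2)) ∈ _
    have e1 : z * (ruG2 φ i * n0G2) = ruG2 φ (e ^ 2 * i) * n0G2 * z⁻¹ := by
      rw [← mul_assoc, conj_ru hφ hz.1, h10, mul_assoc, H_mul_n0 hφ hz.1, mul_assoc]
    rw [e1]
    have e6 : (ruG2 φ (e ^ 2 * i) * n0G2)⁻¹ * (ruG2 φ (e ^ 2 * i) * n0G2 * z⁻¹) = z⁻¹ := by group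
    rw [e6]
    exact Subgroup.inv_mem _ (H2_mem_B hz)

/-- The line action: the inversion. -/
lemma rho_inv (hφ : ∀ x, φ (φ (x ^ 3)) = x) :
    ∃ r ∈ (rhoG2 (hperf := hperf) hφ).range, r ∞ = ((0 : K) : OnePoint K) ∧ r ((0 : K) : OnePoint K) = ∞ ∧
      ∀ i : K, i ≠ 0 → r (i : OnePoint K) = ((-i⁻¹ : K) : OnePoint K) := by
  refine ⟨_, ⟨n0Y hperf φ, rfl⟩, ?_, ?_, ?_⟩
  · rw [rho_iff, thG2_infty, thG2_coe]
    have e : n0Y hperf φ * 1 = ruY hperf φ 0 * n0Y hperf φ := by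
      apply Subtype.ext
      show n0G2 * 1 = ruG2 φ 0 * n0G2
      rw [ru_zero, one_mul, mul_one]
    exact congrArg (QuotientGroup.mk (s := BYG2 hperf φ)) e
  · rw [rho_iff, thG2_infty, thG2_coe]
    have e : n0Y hperf φ * (ruY hperf φ 0 * n0Y hperf φ) = 1 := by
      apply Subtype.ext
      show n0G2 * (ruG2 φ 0 * n0G2) = 1
      rw [ru_zero, one_mul, n0G2_sq]
    exact congrArg (QuotientGroup.mk (s := BYG2 hperf φ)) e
  · intro i hi
    rw [rho_iff, thG2_coe, thG2_coe]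
    show (QuotientGroup.mk (n0Y hperf φ * (ruY hperf φ i * n0Y hperf φ)) : ↥(YG2 hperf φ) ⧸ BYG2 hperf φ) = _
    rw [eq_comm, QuotientGroup.eq, Subgroup.mem_subgroupOf]
    show (ruG2 φ (-i⁻¹) * n0G2)⁻¹ * (n0G2 * (ruG2 φ i * n0G2)) ∈ _
    obtain ⟨z, hz, e⟩ := V_form (hperf := hperf) hφ hi
    have e1 : n0G2 * (ruG2 φ i * n0G2) = ruG2 φ (-i⁻¹) * n0G2 * (z⁻¹ * ruG2 φ (-i⁻¹)) := by
      rw [← mul_assoc, e, H_mul_n0 hφ hz.1]
      group
    rw [e1]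
    have e6 : (ruG2 φ (-i⁻¹) * n0G2)⁻¹ * (ruG2 φ (-i⁻¹) * n0G2 * (z⁻¹ * ruG2 φ (-i⁻¹))) = z⁻¹ * ruG2 φ (-i⁻¹) := by group
    rw [e6]
    exact Subgroup.mul_mem _ (Subgroup.inv_mem _ (H2_mem_B hz)) (ru_mem_B hφ _)

/-- The value hom on units. -/
noncomputable def valG2 (φ : K ≃+* K) : Kˣ →* Kˣ where
  toFun e := e * (Units.map (φ : K →* K) e)⁻¹
  map_one' := by simp
  map_mul' a b := by
    simp only [map_mul, mul_inv]
    exact mul_mul_mul_comm _ _ _ _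

/-- The number of values. -/
lemma card_valG2 [Fintype K] (hφ : ∀ x, φ (φ (x ^ 3)) = x) : 2 * Nat.card (valG2 φ).range ≤ Fintype.card K - 1 := by
  classical
  have h1 := Subgroup.card_mul_index (valG2 φ).ker
  rw [Subgroup.index_ker] at h1
  have h2 : Nat.card Kˣ = Fintype.card K - 1 := by
    rw [Nat.card_eq_fintype_card, Fintype.card_units]
  rw [h2] at h1
  have h3 : 2 ≤ Nat.card (valG2 φ).ker := by
    have hne : (valG2 φ).ker ≠ ⊥ := by
      intro hb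
      have hm : (-1 : Kˣ) ∈ (valG2 φ).ker := by
        rw [MonoidHom.mem_ker]
        apply Units.ext
        show ((-1 : Kˣ) : K) * ((Units.map (φ : K →* K) (-1))⁻¹ : Kˣ) = 1
        simp
      rw [hb, Subgroup.mem_bot] at hm
      have := congrArg Units.val hm
      exact neg_one_ne_one_K (K := K) (by simpa using this)
    exact (Subgroup.one_lt_card_iff_ne_bot _).2 hne
  rw [← h1]
  exact Nat.mul_le_mul_right _ h3

/-- The number of elements of the value subgroup. -/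
lemma card_H2 [Fintype K] (hφ : ∀ x, φ (φ (x ^ 3)) = x) : 2 * Nat.card ↥(H2G2 hperf φ) ≤ Fintype.card K - 1 := by
  refine le_trans (Nat.mul_le_mul_left _ ?_) (card_valG2 hφ)
  have hmem : ∀ z : ↥(H2G2 hperf φ), chi7 (⟨z.1, z.2.1.1⟩ : ↥(chevG2.diagonalSubgroup K)) ∈ (valG2 φ).range := by
    rintro ⟨z, hz, e, he, hze⟩
    refine ⟨Units.mk0 e he, ?_⟩
    apply Units.ext
    rw [hze]
    show (((Units.mk0 e he : Kˣ) * (Units.map (φ : K →* K) (Units.mk0 e he))⁻¹ : Kˣ) : K) = _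
    rw [Units.val_mul, Units.val_inv_eq_inv_val]
    rfl
  let f : ↥(H2G2 hperf φ) → ↥(valG2 φ).range := fun z => ⟨_, hmem z⟩
  have hf : Function.Injective f := by
    intro z z' h
    have h1 : chi7 (⟨z.1, z.2.1.1⟩ : ↥(chevG2.diagonalSubgroup K)) = chi7 ⟨z'.1, z'.2.1.1⟩ := congrArg Subtype.val h
    have h2 := eq_of_chi7 hperf φ (z := ⟨z.1, z.2.1.1⟩) (z' := ⟨z'.1, z'.2.1.1⟩) z.2.1.2 z'.2.1.2 h1
    exact Subtype.ext (congrArg (fun w : ↥(chevG2.diagonalSubgroup K) => (w : GL chevG2.Idx K)) h2)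
  exact Nat.card_le_card_of_injective f hf

/-- The surjection onto `Y`. -/
noncomputable def surjY (hφ : ∀ x, φ (φ (x ^ 3)) = x) : (K × ↥(H2G2 hperf φ)) ⊕ (K × K × ↥(H2G2 hperf φ)) → ↥(YG2 hperf φ) :=
  fun x => match x with
  | Sum.inl p => ruY hperf φ p.1 * ⟨p.2.1, H2_mem_Y p.2.2⟩
  | Sum.inr p => ruY hperf φ p.1 * n0Y hperf φ * (ruY hperf φ p.2.1 * ⟨p.2.2.1, H2_mem_Y p.2.2.2⟩)

lemma surjY_surj (hφ : ∀ x, φ (φ (x ^ 3)) = x) : Function.Surjective (surjY (hperf := hperf) hφ) := by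
  rintro ⟨g, hg⟩
  rcases Y_form hφ hg with ⟨c, h, hh, e⟩ | ⟨c, d, h, hh, e⟩
  · exact ⟨Sum.inl (c, ⟨h, hh⟩), Subtype.ext e.symm⟩
  · exact ⟨Sum.inr (c, d, ⟨h, hh⟩), Subtype.ext e.symm⟩

/-- The order of `Y`. -/
lemma card_Y_le [Fintype K] (hφ : ∀ x, φ (φ (x ^ 3)) = x) : Nat.card ↥(YG2 hperf φ) ≤ Nat.card (Matrix.ProjectiveSpecialLinearGroup (Fin 2) K) := by
  have h1 := Nat.card_le_card_of_surjective _ (surjY_surj (hperf := hperf) hφ)
  rw [Nat.card_sum, Nat.card_prod, Nat.card_prod, Nat.card_prod, Nat.card_eq_fintype_card (α := K)] at h1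
  have h2 := card_H2 (hperf := hperf) hφ
  have h3 := Classical.P2.card_PSL2 (two_ne_K (K := K))
  set q := Fintype.card K
  set t := Nat.card ↥(H2G2 hperf φ)
  have h4 : 2 * (q * t + q * (q * t)) ≤ q * ((q - 1) * (q + 1)) := by
    calc 2 * (q * t + q * (q * t)) = q * ((2 * t) * (q + 1)) := by ring
      _ ≤ q * ((q - 1) * (q + 1)) := by
        apply Nat.mul_le_mul_left
        exact Nat.mul_le_mul_right _ h2
  omega

/-- `Y` is `PSL₂(q)`. -/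
theorem Y_iso_PSL [Fintype K] (hφ : ∀ x, φ (φ (x ^ 3)) = x) :
    Nonempty (↥(YG2 hperf φ) ≃* Matrix.ProjectiveSpecialLinearGroup (Fin 2) K) := by
  classical
  exact Lib.SmallSimple.nonempty_psl_of_le (rhoG2 hφ) (rho_injective hφ) (rho_trans hφ) (rho_mul hφ) (rho_inv hφ) (card_Y_le hφ)

end

end Cfsg.Agent.Lib.Chev
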