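/-
The group ²G₂(q): the centraliser of an involution and the Sylow 2-subgroups.
-/
import Cfsg.Agent.Lib.Coll.G2CC

set_option autoImplicit false
set_option maxRecDepth 100000

namespace Cfsg.Agent.Lib.Chev

open Cfsg.Lie
open scoped Pointwise

/-- A direct product with a central involution. -/
theorem prod_two_G2 {G : Type*} [Group G] (a : G) (ha : a * a = 1) (Y : Subgroup G) (hcomm : ∀ y ∈ Y, a * y = y * a)
    (haY : a ∉ Y) (hcov : ∀ g, g ∈ Y ∨ a * g ∈ Y) : Nonempty (Multiplicative (ZMod 2) × Y ≃* G) := by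
  classical
  have hs : ∀ e : Multiplicative (ZMod 2), e = 1 ∨ e = Multiplicative.ofAdd 1 := by decide
  have hss : (Multiplicative.ofAdd (1 : ZMod 2)) * Multiplicative.ofAdd 1 = 1 := by decide
  have hne : Multiplicative.ofAdd (1 : ZMod 2) ≠ 1 := by decide
  let s : Multiplicative (ZMod 2) → G := fun e => if e = 1 then 1 else a
  have s1 : s 1 = 1 := if_pos rfl
  have s2 : s (Multiplicative.ofAdd 1) = a := if_neg hne
  let f : Multiplicative (ZMod 2) × Y → G := fun p => s p.1 * p.2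
  have hf : ∀ p q, f (p * q) = f p * f q := by
    rintro ⟨e₁, y₁⟩ ⟨e₂, y₂⟩
    show s (e₁ * e₂) * ((y₁ : G) * y₂) = s e₁ * y₁ * (s e₂ * y₂)
    rcases hs e₁ with rfl | rfl <;> rcases hs e₂ with rfl | rfl
    · simp [s1]
    · rw [one_mul, s1, s2, one_mul]
      calc a * ((y₁ : G) * y₂) = (a * y₁) * y₂ := by group
        _ = (y₁ * a) * y₂ := by rw [hcomm _ y₁.2]
        _ = y₁ * (a * y₂) := by group
    · rw [mul_one, s1, s2, one_mul, mul_assoc]
    · rw [hss, s1, s2, one_mul]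
      calc (y₁ : G) * y₂ = y₁ * (a * a) * y₂ := by rw [ha, mul_one]
        _ = (y₁ * a) * (a * y₂) := by group
        _ = (a * y₁) * (a * y₂) := by rw [hcomm _ y₁.2]
  refine ⟨MulEquiv.ofBijective (MonoidHom.mk' f hf) ⟨?_, ?_⟩⟩
  · rw [injective_iff_map_eq_one]
    rintro ⟨e, y⟩ h
    have h' : s e * (y : G) = 1 := h
    rcases hs e with rfl | rfl
    · rw [s1, one_mul] at h'
      have : y = 1 := Subtype.ext h'
      rw [this]
      rfl
    · exfalso
      rw [s2] at h'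
      apply haY
      rw [eq_inv_of_mul_eq_one_left h']
      exact Subgroup.inv_mem _ y.2
  · intro g
    rcases hcov g with h | h
    · exact ⟨(1, ⟨g, h⟩), by
        show s 1 * g = g
        rw [s1, one_mul]⟩
    · exact ⟨(Multiplicative.ofAdd 1, ⟨a * g, h⟩), by
        show s (Multiplicative.ofAdd 1) * (a * g) = g
        rw [s2, ← mul_assoc, ha, one_mul]⟩

/-- The 2-adic size of a Sylow subgroup. -/
lemma card_sylow_of {G : Type*} [Group G] [Finite G] {t : ℕ} (ht : Odd t) (hG : Nat.card G = 8 * t) (S : Sylow 2 G) :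
    Nat.card S = 8 := by
  haveI : Fact (Nat.Prime 2) := ⟨Nat.prime_two⟩
  have h8 : 2 ^ 3 ∣ Nat.card G := by
    rw [hG]
    exact Dvd.intro _ rfl
  have h1 := S.pow_dvd_card_of_pow_dvd_card h8
  obtain ⟨n, hn⟩ := IsPGroup.iff_card.1 S.isPGroup'
  have h2 : Nat.card S ∣ 8 * t := by
    rw [← hG]
    exact Subgroup.card_subgroup_dvd_card _
  have h3 : Nat.Coprime (Nat.card S) t := by
    rw [hn]
    exact Nat.Coprime.pow_left _ (Nat.coprime_two_left.2 ht)
  have h4 : Nat.card S ∣ 8 := h3.dvd_of_dvd_mul_right h2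
  exact Nat.dvd_antisymm h4 h1

/-- A Sylow subgroup in the centraliser. -/
lemma exists_sylow_centr {G : Type*} [Group G] [Finite G] (a : G) {t : ℕ} (ht : Odd t) (hG : Nat.card G = 8 * t)
    (hC : 8 ∣ Nat.card (Subgroup.centralizer ({a} : Set G))) :
    ∃ P : Sylow 2 G, (P : Subgroup G) ≤ Subgroup.centralizer ({a} : Set G) := by
  haveI : Fact (Nat.Prime 2) := ⟨Nat.prime_two⟩
  obtain ⟨T₀, hT₀⟩ := Sylow.exists_subgroup_card_pow_prime (G := ↥(Subgroup.centralizer ({a} : Set G))) 2 (n := 3) (by simpa using hC)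
  set T : Subgroup G := T₀.map (Subgroup.centralizer ({a} : Set G)).subtype with hTd
  have hTc : Nat.card T = 8 := by
    rw [hTd, Subgroup.card_map_of_injective (Subgroup.subtype_injective _), hT₀]
    rfl
  have hT : IsPGroup 2 T := IsPGroup.of_card (n := 3) (by rw [hTc]; rfl)
  obtain ⟨P, hP⟩ := hT.exists_le_sylow
  have hPc := card_sylow_of ht hG P
  have e : T = P := Subgroup.eq_of_le_of_card_ge hP (by rw [hTc]; exact hPc.le)
  refine ⟨P, ?_⟩
  rw [← e, hTd]
  exact Subgroup.map_subtype_le _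

/-- The exponent of Sylow subgroups. -/
theorem sylow_exp_of {G : Type*} [Group G] [Finite G] (a : G) {t : ℕ} (ht : Odd t) (hG : Nat.card G = 8 * t)
    (hC : 8 ∣ Nat.card (Subgroup.centralizer ({a} : Set G)))
    (hexp : ∀ x : G, x * a = a * x → x ^ 8 = 1 → x * x = 1) (S : Sylow 2 G) : Nat.card S = 8 ∧ ∀ x ∈ S, x * x = 1 := by
  haveI : Fact (Nat.Prime 2) := ⟨Nat.prime_two⟩
  refine ⟨card_sylow_of ht hG S, ?_⟩
  obtain ⟨P, hP⟩ := exists_sylow_centr a ht hG hC
  obtain ⟨g, rfl⟩ := MulAction.exists_smul_eq G P S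
  intro x hx
  have hx' : x ∈ MulAut.conj g • (P : Subgroup G) := by
    rw [← Sylow.coe_subgroup_smul]
    exact hx
  obtain ⟨y, hy, rfl⟩ := (Subgroup.mem_smul_pointwise_iff_exists _ _ _).1 hx'
  have h1 : y * a = a * y := Subgroup.mem_centralizer_singleton_iff.1 (hP hy)
  have h2 : y ^ 8 = 1 := by
    have := pow_card_eq_one' (G := P) (x := ⟨y, hy⟩)
    rw [card_sylow_of ht hG P] at this
    exact congrArg Subtype.val this
  have h3 := hexp y h1 h2
  rw [MulAut.smul_def, MulAut.conj_apply]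
  calc g * y * g⁻¹ * (g * y * g⁻¹) = g * (y * y) * g⁻¹ := by group
    _ = 1 := by rw [h3]; group

section

open Cfsg.Agent.Lib.Classical.P2 in
/-- Elements of order four do not exist in `PSL₂(q)`, `q ≡ 3 (mod 4)`, in characteristic three. -/
lemma psl_four {F : Type*} [Field F] (h2 : (2 : F) ≠ 0) (h3 : (3 : F) = 0) (hneg : ∀ s : F, s * s ≠ -1)
    (p : Matrix.ProjectiveSpecialLinearGroup (Fin 2) F) (hp : p ^ 4 = 1) : p ^ 2 = 1 := by
  obtain ⟨A, rfl⟩ := QuotientGroup.mk_surjective p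
  by_contra hne
  have e2 : ((QuotientGroup.mk A : Matrix.ProjectiveSpecialLinearGroup (Fin 2) F)) ^ 2 = QuotientGroup.mk (A * A) := by
    rw [QuotientGroup.mk_mul, pow_two]
  rw [e2] at hne
  have h1 : (QuotientGroup.mk (A * A) : Matrix.ProjectiveSpecialLinearGroup (Fin 2) F) * QuotientGroup.mk (A * A) = 1 := by
    rw [← e2, ← pow_add]
    exact hp
  have hI := isI_of_mk h2 h1 hne
  have ht := isI_trace h2 hI
  obtain ⟨e00, -, -, e11⟩ := mul_entries A A
  have hd := det_eq A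
  rw [e00, e11] at ht
  apply hneg (A.1 0 0 + A.1 1 1)
  linear_combination ht + 2 * hd + h3

lemma psl_eight {F : Type*} [Field F] (h2 : (2 : F) ≠ 0) (h3 : (3 : F) = 0) (hneg : ∀ s : F, s * s ≠ -1)
    (p : Matrix.ProjectiveSpecialLinearGroup (Fin 2) F) (hp : p ^ 8 = 1) : p * p = 1 := by
  have h4 : (p ^ 2) ^ 2 = 1 := psl_four h2 h3 hneg _ (by rw [← pow_mul]; exact hp)
  have h5 := psl_four h2 h3 hneg p (by rw [← pow_mul] at h4; exact h4)
  rwa [pow_two] at h5

end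

section

variable {K : Type*} [Field K] [CharP K 3] {hperf : ∀ x : K, ∃ y : K, y ^ 3 = x} {φ : K ≃+* K}

lemma neg_not_sq [Fintype K] {m : ℕ} (hK : Fintype.card K = 3 ^ (2 * m + 1)) (s : K) : s * s ≠ -1 := by
  intro h
  have h3 : IsSquare (-1 : K) := ⟨s, h.symm⟩
  refine FiniteField.isSquare_neg_one_iff.mp h3 ?_
  rw [hK, pow_succ, pow_mul]
  norm_num [Nat.mul_mod, Nat.pow_mod]

/-- The elements of `Y` of two-power order. -/
lemma Y_exp [Fintype K] {m : ℕ} (hK : Fintype.card K = 3 ^ (2 * m + 1)) (hφ : ∀ x, φ (φ (x ^ 3)) = x) {y : GL chevG2.Idx K}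
    (hy : y ∈ YG2 hperf φ) (h8 : y ^ 8 = 1) : y * y = 1 := by
  obtain ⟨E⟩ := Y_iso_PSL (hperf := hperf) hφ
  have h1 : (E ⟨y, hy⟩) ^ 8 = 1 := by
    rw [← map_pow]
    have : (⟨y, hy⟩ : ↥(YG2 hperf φ)) ^ 8 = 1 := Subtype.ext h8
    rw [this, map_one]
  have h2 := psl_eight (two_ne_K (K := K)) (three_eq_zero (K := K)) (neg_not_sq hK) _ h1
  rw [← map_mul] at h2
  have h3 := (map_eq_one_iff E E.injective).1 h2
  exact congrArg Subtype.val h3

/-- The elements of two-power order commuting with the involution. -/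
lemma centr_exp [Fintype K] {m : ℕ} (hK : Fintype.card K = 3 ^ (2 * m + 1)) (hφ : ∀ x, φ (φ (x ^ 3)) = x)
    {a : GL chevG2.Idx K} (ha : IsInvG2 hperf φ a) {x : GL chevG2.Idx K} (hx : x ∈ (twG2 hperf φ).fix) (hc : x * a = a * x)
    (h8 : x ^ 8 = 1) : x * x = 1 := by
  rcases C_form hφ (sq_or_neg_sq hK) ha hx hc.symm with h | h
  · exact Y_exp hK hφ h h8
  · have e1 : (a * x) * (a * x) = x * x := by
      calc (a * x) * (a * x) = a * (x * a) * x := by group
        _ = a * (a * x) * x := by rw [hc]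
        _ = (a * a) * (x * x) := by group
        _ = x * x := by rw [ha.sq, one_mul]
    rw [← e1]
    refine Y_exp hK hφ h ?_
    have e2 : a ^ 8 = 1 := by
      have : a ^ 8 = (a * a) ^ 4 := by
        rw [← pow_two, ← pow_mul]
      rw [this, ha.sq, one_pow]
    rw [(show Commute a x from hc.symm).mul_pow, e2, h8, one_mul]

/-- The centraliser in the group. -/
theorem centr_iso_G2 [Fintype K] {m : ℕ} (hK : Fintype.card K = 3 ^ (2 * m + 1)) (hφ : ∀ x, φ (φ (x ^ 3)) = x)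
    {a : ↥(twG2 hperf φ).fix} (ha : IsInvG2 hperf φ (a : GL chevG2.Idx K)) :
    Nonempty (↥(Subgroup.centralizer ({a} : Set ↥(twG2 hperf φ).fix)) ≃* Multiplicative (ZMod 2) × Matrix.ProjectiveSpecialLinearGroup (Fin 2) K) := by
  set C := Subgroup.centralizer ({a} : Set ↥(twG2 hperf φ).fix) with hC
  set Y' : Subgroup ↥C := ((YG2 hperf φ).subgroupOf (twG2 hperf φ).fix).subgroupOf C with hY'
  have ha2 : a * a = 1 := Subtype.ext ha.sq
  have haC : a ∈ C := Subgroup.mem_centralizer_singleton_iff.2 rfl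
  have hYC : (YG2 hperf φ).subgroupOf (twG2 hperf φ).fix ≤ C := by
    intro y hy
    rw [Subgroup.mem_subgroupOf] at hy
    refine Subgroup.mem_centralizer_singleton_iff.2 (Subtype.ext ?_)
    show (y : GL chevG2.Idx K) * a = a * y
    have hcl : YG2 hperf φ ≤ Subgroup.centralizer ({(a : GL chevG2.Idx K)} : Set (GL chevG2.Idx K)) := by
      refine (Subgroup.closure_le _).2 ?_
      rintro g ((⟨c, rfl⟩ | hg) | hg)
      · exact Subgroup.mem_centralizer_singleton_iff.2 (a_comm_ru hφ ha c).symm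
      · rw [Set.mem_singleton_iff.1 hg]
        exact Subgroup.mem_centralizer_singleton_iff.2 (a_comm_n0 hφ ha).symm
      · exact Subgroup.mem_centralizer_singleton_iff.2 (a_comm_H ha hg.1.1).symm
    exact Subgroup.mem_centralizer_singleton_iff.1 (hcl hy)
  obtain ⟨E⟩ := prod_two_G2 (⟨a, haC⟩ : ↥C) (Subtype.ext ha2) Y' (by
      rintro y -
      apply Subtype.ext
      exact (Subgroup.mem_centralizer_singleton_iff.1 y.2).symm) (by
      intro h
      rw [hY', Subgroup.mem_subgroupOf, Subgroup.mem_subgroupOf] at h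
      exact a_not_Y hφ ha h) (by
      intro g
      have h := C_form hφ (sq_or_neg_sq hK) ha g.1.2 (congrArg Subtype.val (Subgroup.mem_centralizer_singleton_iff.1 g.2)).symm
      rcases h with h | h
      · left
        rw [hY', Subgroup.mem_subgroupOf, Subgroup.mem_subgroupOf]
        exact h
      · right
        rw [hY', Subgroup.mem_subgroupOf, Subgroup.mem_subgroupOf]
        exact h)
  obtain ⟨F⟩ := Y_iso_PSL (hperf := hperf) hφ
  have e1 : ↥Y' ≃* Matrix.ProjectiveSpecialLinearGroup (Fin 2) K :=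
    (Subgroup.subgroupOfEquivOfLe hYC).trans ((Subgroup.subgroupOfEquivOfLe (Y_le_fix hφ)).trans F)
  exact ⟨E.symm.trans (MulEquiv.prodCongr (MulEquiv.refl _) e1)⟩

/-- The numerics of the order. -/
lemma order_num (m : ℕ) : ∃ t, Odd t ∧ (3 ^ (2 * m + 1)) ^ 3 * (3 ^ (2 * m + 1) - 1) * ((3 ^ (2 * m + 1)) ^ 3 + 1) = 8 * t := by
  have h1 : 3 ^ (2 * m + 1) % 8 = 3 := by
    rw [pow_succ, pow_mul, Nat.mul_mod, Nat.pow_mod]
    norm_num [Nat.pow_mod]
  obtain ⟨k, hk⟩ : ∃ k, 3 ^ (2 * m + 1) = 8 * k + 3 := ⟨3 ^ (2 * m + 1) / 8, by omega⟩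
  rw [hk]
  refine ⟨(8 * k + 3) ^ 3 * (4 * k + 1) * (128 * k ^ 3 + 144 * k ^ 2 + 54 * k + 7), ?_, ?_⟩
  · refine Odd.mul (Odd.mul (Odd.pow ?_) ?_) ?_
    · exact ⟨4 * k + 1, by ring⟩
    · exact ⟨2 * k, by ring⟩
    · exact ⟨64 * k ^ 3 + 72 * k ^ 2 + 27 * k + 3, by ring⟩
  · have : 8 * k + 3 - 1 = 2 * (4 * k + 1) := by omega
    rw [this]
    ring

/-- Numerics of the centraliser. -/
lemma centr_num (m : ℕ) : 8 ∣ 3 ^ (2 * m + 1) * ((3 ^ (2 * m + 1) - 1) * (3 ^ (2 * m + 1) + 1)) := by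
  have h1 : 3 ^ (2 * m + 1) % 8 = 3 := by
    rw [pow_succ, pow_mul, Nat.mul_mod, Nat.pow_mod]
    norm_num [Nat.pow_mod]
  obtain ⟨k, hk⟩ : ∃ k, 3 ^ (2 * m + 1) = 8 * k + 3 := ⟨3 ^ (2 * m + 1) / 8, by omega⟩
  rw [hk]
  have e : 8 * k + 3 - 1 = 2 * (4 * k + 1) := by omega
  rw [e]
  exact ⟨(8 * k + 3) * (4 * k + 1) * (2 * k + 1), by ring⟩

/-- The order of the centraliser. -/
lemma card_centr_G2 [Fintype K] {m : ℕ} (hK : Fintype.card K = 3 ^ (2 * m + 1)) (hφ : ∀ x, φ (φ (x ^ 3)) = x)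
    {a : ↥(twG2 hperf φ).fix} (ha : IsInvG2 hperf φ (a : GL chevG2.Idx K)) :
    Nat.card (Subgroup.centralizer ({a} : Set ↥(twG2 hperf φ).fix)) = 2 * Nat.card (Matrix.ProjectiveSpecialLinearGroup (Fin 2) K) := by
  obtain ⟨E⟩ := centr_iso_G2 hK hφ ha
  rw [Nat.card_congr E.toEquiv, Nat.card_prod]
  congr 1
  rw [show Nat.card (Multiplicative (ZMod 2)) = Nat.card (ZMod 2) from Nat.card_congr Multiplicative.toAdd, Nat.card_zmod]

/-- The main statement at the level of the fixed points. -/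
theorem main_S1152 [Fintype K] {m : ℕ} (hK : Fintype.card K = 3 ^ (2 * m + 1)) (hφ : ∀ x, φ (φ (x ^ 3)) = x)
    {G1 : Subgroup (GL chevG2.Idx K)} (hG1 : G1 = (twG2 hperf φ).fix) (a : ↥G1)
    (haH : (a : GL chevG2.Idx K) ∈ chevG2.diagonalSubgroup K) (ha1 : a ≠ 1) (ha2 : a * a = 1) :
    Nonempty (↥(Subgroup.centralizer ({a} : Set ↥G1)) ≃* Multiplicative (ZMod 2) × Matrix.ProjectiveSpecialLinearGroup (Fin 2) K) ∧
      ∀ S : Sylow 2 ↥G1, Nat.card S = 8 ∧ ∀ x ∈ S, x * x = 1 := by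
  subst hG1
  have ha : IsInvG2 hperf φ (a : GL chevG2.Idx K) := ⟨⟨haH, a.2⟩, fun h => ha1 (Subtype.ext h), congrArg Subtype.val ha2⟩
  refine ⟨centr_iso_G2 hK hφ ha, ?_⟩
  obtain ⟨t, ht, e⟩ := order_num m
  have hG := orderRee2G2 hperf φ hK hφ
  rw [e] at hG
  refine sylow_exp_of a ht hG ?_ ?_
  · rw [card_centr_G2 hK hφ ha, Classical.P2.card_PSL2 (two_ne_K (K := K)), hK]
    exact centr_num m
  · intro x hc h8
    exact Subtype.ext (centr_exp hK hφ ha x.2 (congrArg Subtype.val hc) (congrArg Subtype.val h8))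

end

end Cfsg.Agent.Lib.Chev
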