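/-
A group with a central involution whose centraliser is an involution times a group with properties of `PSL₂(q)`:
the centraliser and the normaliser of a Sylow 2-subgroup.
-/
import Cfsg.Agent.Lib.Coll.G2CD
import Cfsg.Agent.Lib.Techniques.Fusion

set_option autoImplicit false

namespace Cfsg.Agent.Lib.Chev

open scoped Pointwise commutatorElement

section

variable {G : Type*} [Group G]

lemma mem_norm_of [Finite G] (H : Subgroup G) {g : G} (h : ∀ x ∈ H, g * x * g⁻¹ ∈ H) : g ∈ Subgroup.normalizer (H : Set G) := by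
  rw [Subgroup.mem_normalizer_iff]
  intro x
  refine ⟨h x, fun hx => ?_⟩
  let f : H → H := fun y => ⟨g * y * g⁻¹, h y y.2⟩
  have hf : Function.Injective f := by
    intro y y' e
    have e2 : g * (y : G) * g⁻¹ = g * y' * g⁻¹ := congrArg Subtype.val e
    apply Subtype.ext
    simpa using e2
  obtain ⟨y, hy⟩ := (Finite.injective_iff_surjective.1 hf) ⟨_, hx⟩
  have e : g * (y : G) * g⁻¹ = g * x * g⁻¹ := congrArg Subtype.val hy
  have e2 : (y : G) = x := by simpa using e
  rw [← e2]
  exact y.2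

lemma comm_of_exp {H : Subgroup G} (hH : ∀ x ∈ H, x * x = 1) {x y : G} (hx : x ∈ H) (hy : y ∈ H) : x * y = y * x := by
  have h1 := hH _ (H.mul_mem hx hy)
  have h2 := hH _ hx
  have h3 := hH _ hy
  calc x * y = x * y * (y * x * (y * x)) := by rw [hH _ (H.mul_mem hy hx), mul_one]
    _ = x * (y * y) * x * (y * x) := by group
    _ = (x * x) * (y * x) := by rw [h3, mul_one]
    _ = y * x := by rw [h2, one_mul]

/-- Three elements permuted by an element of order three. -/
lemma three_orbit [DecidableEq G] (T : Finset G) (hT : T.card = 3) (s : G) (hs3 : s ^ 3 = 1) (hinv : ∀ x ∈ T, s * x * s⁻¹ ∈ T)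
    (hfix : ∀ x ∈ T, s * x * s⁻¹ ≠ x) {x y : G} (hx : x ∈ T) (hy : y ∈ T) :
    y = x ∨ y = s * x * s⁻¹ ∨ y = s * (s * x * s⁻¹) * s⁻¹ := by
  have h1 := hinv x hx
  have h2 := hinv _ h1
  have e1 := hfix x hx
  have e2 := hfix _ h1
  have e3 : s * (s * x * s⁻¹) * s⁻¹ ≠ x := by
    intro e
    apply e1
    have e4 : s * (s * (s * x * s⁻¹) * s⁻¹) * s⁻¹ = x := by
      have e5 : s * (s * (s * x * s⁻¹) * s⁻¹) * s⁻¹ = s ^ 3 * x * (s ^ 3)⁻¹ := by
        rw [pow_three]
        group
      rw [e5, hs3]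
      group
    rw [e] at e4
    exact e4
  have hsub : ({x, s * x * s⁻¹, s * (s * x * s⁻¹) * s⁻¹} : Finset G) ⊆ T := by
    intro z hz
    simp only [Finset.mem_insert, Finset.mem_singleton] at hz
    rcases hz with rfl | rfl | rfl
    · exact hx
    · exact h1
    · exact h2
  have hcard : ({x, s * x * s⁻¹, s * (s * x * s⁻¹) * s⁻¹} : Finset G).card = 3 := by
    rw [Finset.card_eq_three]
    exact ⟨_, _, _, e1.symm, e3.symm, e2.symm, rfl⟩
  have hEq := Finset.eq_of_subset_of_card_le hsub (by rw [hT, hcard])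
  rw [← hEq] at hy
  simpa only [Finset.mem_insert, Finset.mem_singleton] using hy

/-- Orbit-stabiliser for conjugation under a subgroup. -/
lemma card_orbit_conj [Finite G] (N : Subgroup G) (a : G) :
    Nat.card N = Set.ncard {x : G | ∃ n ∈ N, x = n * a * n⁻¹} * Nat.card ↥(N ⊓ Subgroup.centralizer ({a} : Set G)) := by
  letI inst : MulAction ↥N G := MulAction.compHom G ((MulAut.conj : G →* MulAut G).comp N.subtype)
  have hsmul : ∀ (n : ↥N) (g : G), n • g = (n : G) * g * (n : G)⁻¹ := fun _ _ => rfl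
  have h1 := MulAction.index_stabilizer ↥N a
  have h2 : MulAction.stabilizer ↥N a = (Subgroup.centralizer ({a} : Set G)).subgroupOf N := by
    ext n
    rw [MulAction.mem_stabilizer_iff, Subgroup.mem_subgroupOf, Subgroup.mem_centralizer_singleton_iff, hsmul]
    constructor
    · intro h
      calc (n : G) * a = ((n : G) * a * (n : G)⁻¹) * n := by group
        _ = a * n := by rw [h]
    · intro h
      rw [h]
      group
  have h3 : Nat.card ↥(N ⊓ Subgroup.centralizer ({a} : Set G)) = Nat.card ↥((Subgroup.centralizer ({a} : Set G)).subgroupOf N) := by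
    have h6 : Nat.card ↥(((Subgroup.centralizer ({a} : Set G)).subgroupOf N).map N.subtype) = Nat.card ↥((Subgroup.centralizer ({a} : Set G)).subgroupOf N) :=
      Subgroup.card_map_of_injective (Subgroup.subtype_injective N)
    rw [Subgroup.subgroupOf_map_subtype, inf_comm] at h6
    exact h6
  have h4 := Subgroup.card_mul_index ((Subgroup.centralizer ({a} : Set G)).subgroupOf N)
  have h5 : MulAction.orbit ↥N a = {x : G | ∃ n ∈ N, x = n * a * n⁻¹} := by
    ext x
    constructor
    · rintro ⟨n, rfl⟩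
      exact ⟨n, n.2, rfl⟩
    · rintro ⟨n, hn, rfl⟩
      exact ⟨⟨n, hn⟩, rfl⟩
  rw [← h5, ← h1, h2, h3, mul_comm, h4]

/-- The data of an involution with centraliser the involution times a group like `PSL₂(q)`. -/
structure CentDat (a : G) (Y : Subgroup G) (t : ℕ) : Prop where
  sq : a * a = 1
  Ya : ∀ y ∈ Y, y * a = a * y
  aY : a ∉ Y
  cov : ∀ g, g * a = a * g → g ∈ Y ∨ a * g ∈ Y
  odd : Odd t
  card : Nat.card G = 8 * t
  c8 : 8 ∣ Nat.card (Subgroup.centralizer ({a} : Set G))
  exp : ∀ y ∈ Y, y ^ 8 = 1 → y * y = 1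
  no3 : ∀ u ∈ Y, ∀ s ∈ Y, u * u = 1 → u ≠ 1 → s ^ 3 = 1 → s ≠ 1 → s * u = u * s → False
  n12 : ∀ V : Subgroup G, V ≤ Y → Nat.card V = 4 → (∀ x ∈ V, x * x = 1) → Nat.card ↥(Subgroup.normalizer (V : Set G) ⊓ Y) = 12
  perf : commutator G = ⊤

variable {a : G} {Y : Subgroup G} {t : ℕ}

lemma CentDat.exp' (D : CentDat a Y t) {x : G} (hc : x * a = a * x) (h8 : x ^ 8 = 1) : x * x = 1 := by
  rcases D.cov x hc with h | h
  · exact D.exp x h h8
  · have e1 : (a * x) * (a * x) = x * x := by
      calc (a * x) * (a * x) = a * (x * a) * x := by group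
        _ = a * (a * x) * x := by rw [hc]
        _ = (a * a) * (x * x) := by group
        _ = x * x := by rw [D.sq, one_mul]
    rw [← e1]
    refine D.exp _ h ?_
    have e2 : a ^ 8 = 1 := by
      have : a ^ 8 = (a * a) ^ 4 := by
        rw [← pow_two, ← pow_mul]
      rw [this, D.sq, one_pow]
    rw [(show Commute a x from hc.symm).mul_pow, e2, h8, one_mul]

lemma CentDat.a_inv (D : CentDat a Y t) : a⁻¹ = a := inv_eq_of_mul_eq_one_left D.sq

/-- A Sylow subgroup containing the involution. -/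
lemma CentDat.a_mem [Finite G] (D : CentDat a Y t) (P : Sylow 2 G) (hP : (P : Subgroup G) ≤ Subgroup.centralizer ({a} : Set G)) : a ∈ P := by
  haveI : Fact (Nat.Prime 2) := ⟨Nat.prime_two⟩
  have hQ : IsPGroup 2 (Subgroup.zpowers a) := by
    rintro ⟨x, n, rfl⟩
    refine ⟨1, Subtype.ext ?_⟩
    show (a ^ n) ^ 2 ^ 1 = 1
    rw [pow_one, ← zpow_natCast (a ^ n) 2, ← zpow_mul, mul_comm, zpow_mul, zpow_natCast, pow_two, D.sq, one_zpow]
  have h := hQ.inf_normalizer_sylow P
  have h1 : a ∈ Subgroup.zpowers a ⊓ Subgroup.normalizer ((P : Subgroup G) : Set G) :=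
    ⟨Subgroup.mem_zpowers a, mem_norm_of _ (fun x hx => by
      have : x * a = a * x := Subgroup.mem_centralizer_singleton_iff.1 (hP hx)
      rw [← this]
      simpa using hx)⟩
  exact (h.le h1).2

/-- The main statement for a Sylow subgroup in the centraliser. -/
theorem CentDat.main_P [Finite G] (D : CentDat a Y t) (P : Sylow 2 G) (hP : (P : Subgroup G) ≤ Subgroup.centralizer ({a} : Set G)) :
    Subgroup.centralizer ((P : Subgroup G) : Set G) = P ∧ Nat.card (Subgroup.normalizer ((P : Subgroup G) : Set G)) = 168 := by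
  classical
  haveI : Fact (Nat.Prime 2) := ⟨Nat.prime_two⟩
  haveI : Fact (Nat.Prime 3) := ⟨Nat.prime_three⟩
  obtain ⟨hP8, hPe⟩ := sylow_exp_of a D.odd D.card D.c8 (fun x hc h8 => D.exp' hc h8) P
  have haP : a ∈ P := D.a_mem P hP
  have hab : ∀ {x y : G}, x ∈ P → y ∈ P → x * y = y * x := fun hx hy => comm_of_exp hPe hx hy
  have hcomm_a : ∀ {x : G}, x ∈ P → x * a = a * x := fun hx => hab hx haP
  have ha1 : a ≠ 1 := fun h => D.aY (h ▸ Y.one_mem)
  set V : Subgroup G := (P : Subgroup G) ⊓ Y with hV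
  have hVP : V ≤ P := inf_le_left
  have hVY : V ≤ Y := inf_le_right
  have hcovP : ∀ {x : G}, x ∈ P → x ∈ V ∨ a * x ∈ V := by
    intro x hx
    rcases D.cov x (hcomm_a hx) with h | h
    · exact Or.inl ⟨hx, h⟩
    · exact Or.inr ⟨P.1.mul_mem haP hx, h⟩
  -- the order of `V`
  have hV4 : Nat.card V = 4 := by
    obtain ⟨E⟩ := prod_two_G2 (⟨a, haP⟩ : ↥(P : Subgroup G)) (Subtype.ext D.sq) (V.subgroupOf (P : Subgroup G)) (by
        rintro y -
        exact Subtype.ext (hcomm_a y.2).symm) (by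
        intro h
        rw [Subgroup.mem_subgroupOf] at h
        exact D.aY h.2) (by
        intro g
        rcases hcovP g.2 with h | h
        · left
          rw [Subgroup.mem_subgroupOf]
          exact h
        · right
          rw [Subgroup.mem_subgroupOf]
          exact h)
    have h1 := Nat.card_congr E.toEquiv
    rw [Nat.card_prod, show Nat.card (Multiplicative (ZMod 2)) = Nat.card (ZMod 2) from Nat.card_congr Multiplicative.toAdd, Nat.card_zmod, Nat.card_congr (Subgroup.subgroupOfEquivOfLe hVP).toEquiv] at h1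
    have h2 : Nat.card ↥(P : Subgroup G) = 8 := hP8
    omega
  have hVe : ∀ x ∈ V, x * x = 1 := fun x hx => hPe x hx.1
  -- the normaliser in `Y`
  set NY : Subgroup G := Subgroup.normalizer (V : Set G) ⊓ Y with hNY
  have hNY12 : Nat.card NY = 12 := D.n12 V hVY hV4 hVe
  have h3NY : 3 ∣ Nat.card NY := by rw [hNY12]; norm_num
  -- the element of order three
  obtain ⟨s₀, hs₀⟩ := exists_prime_orderOf_dvd_card' (G := ↥NY) 3 h3NY
  set s : G := (s₀ : G) with hs
  have hsNY : s ∈ NY := s₀.2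
  have hs3 : s ^ 3 = 1 := by
    have := pow_orderOf_eq_one s₀
    rw [hs₀] at this
    exact congrArg Subtype.val this
  have hs1 : s ≠ 1 := by
    intro h
    have h2 : s₀ = 1 := Subtype.ext h
    rw [h2, orderOf_one] at hs₀
    omega
  -- the elements of `V` are not centralised by elements of order three
  have hV1 : ∃ v ∈ V, v ≠ 1 := by
    by_contra hcon
    push_neg at hcon
    have : V = ⊥ := (Subgroup.eq_bot_iff_forall _).2 hcon
    rw [this, Subgroup.card_bot] at hV4
    omega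
  -- the centraliser in `Y`
  have hCY : Subgroup.centralizer (V : Set G) ⊓ Y = V := by
    have hle1 : Subgroup.centralizer (V : Set G) ⊓ Y ≤ NY := by
      intro x hx
      refine ⟨mem_norm_of _ (fun v hv => ?_), hx.2⟩
      have : x * v = v * x := ((Subgroup.mem_centralizer_iff.1 hx.1) v hv).symm
      rw [this]
      simpa using hv
    have hle2 : V ≤ Subgroup.centralizer (V : Set G) ⊓ Y :=
      le_inf (fun x hx => Subgroup.mem_centralizer_iff.2 (fun y hy => hab hy.1 hx.1 |>.trans rfl)) hVY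
    have hd1 : Nat.card ↥(Subgroup.centralizer (V : Set G) ⊓ Y) ∣ 12 := by
      rw [← hNY12]
      exact Subgroup.card_dvd_of_le hle1
    have hd2 : 4 ∣ Nat.card ↥(Subgroup.centralizer (V : Set G) ⊓ Y) := by
      rw [← hV4]
      exact Subgroup.card_dvd_of_le hle2
    have hn3 : ¬ 3 ∣ Nat.card ↥(Subgroup.centralizer (V : Set G) ⊓ Y) := by
      intro h
      obtain ⟨c, hc⟩ := exists_prime_orderOf_dvd_card' (G := ↥(Subgroup.centralizer (V : Set G) ⊓ Y)) 3 h
      obtain ⟨v, hv, hv1⟩ := hV1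
      refine D.no3 v (hVY hv) c c.2.2 (hVe v hv) hv1 ?_ ?_ ?_
      · have := pow_orderOf_eq_one c
        rw [hc] at this
        exact congrArg Subtype.val this
      · intro h0
        have h2 : c = 1 := Subtype.ext h0
        rw [h2, orderOf_one] at hc
        omega
      · exact ((Subgroup.mem_centralizer_iff.1 c.2.1) v hv).symm
    have hc4 : Nat.card ↥(Subgroup.centralizer (V : Set G) ⊓ Y) = 4 := by
      obtain ⟨k, hk⟩ := hd2
      rw [hk] at hd1 hn3
      have hk3 : k ∣ 3 := Nat.dvd_of_mul_dvd_mul_left (by norm_num : 0 < 4) (by simpa using hd1)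
      have hk' : k = 1 ∨ k = 3 := (Nat.dvd_prime Nat.prime_three).1 hk3
      rcases hk' with rfl | rfl
      · simpa using hk
      · exact absurd (Dvd.intro_left 4 rfl) hn3
    exact (Subgroup.eq_of_le_of_card_ge hle2 (by rw [hc4, hV4])).symm
  -- the centraliser of the Sylow subgroup
  have hCP : Subgroup.centralizer ((P : Subgroup G) : Set G) = P := by
    apply le_antisymm
    · intro x hx
      have hxa : x * a = a * x := ((Subgroup.mem_centralizer_iff.1 hx) a haP).symm
      rcases D.cov x hxa with h | h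
      · have h1 : x ∈ Subgroup.centralizer (V : Set G) ⊓ Y :=
          ⟨Subgroup.mem_centralizer_iff.2 (fun v hv => (Subgroup.mem_centralizer_iff.1 hx) v hv.1), h⟩
        rw [hCY] at h1
        exact h1.1
      · have h1 : a * x ∈ Subgroup.centralizer (V : Set G) ⊓ Y := by
          refine ⟨Subgroup.mem_centralizer_iff.2 (fun v hv => ?_), h⟩
          have e1 := (Subgroup.mem_centralizer_iff.1 hx) v hv.1
          have e2 := hcomm_a hv.1
          calc v * (a * x) = (v * a) * x := by group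
            _ = a * (v * x) := by rw [e2]; group
            _ = a * (x * v) := by rw [e1]
            _ = a * x * v := by group
        rw [hCY] at h1
        have e : x = a⁻¹ * (a * x) := by group
        rw [e]
        exact P.1.mul_mem (P.1.inv_mem haP) h1.1
    · intro x hx
      exact Subgroup.mem_centralizer_iff.2 (fun y hy => hab hy hx)
  refine ⟨hCP, ?_⟩
  set N : Subgroup G := Subgroup.normalizer ((P : Subgroup G) : Set G) with hN
  have hNP : ∀ {n x : G}, n ∈ N → x ∈ P → n * x * n⁻¹ ∈ P := fun {_ x} hn hx => (Subgroup.mem_normalizer_iff.1 hn x).1 hx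
  have hNYN : ∀ {y : G}, y ∈ NY → y ∈ N := by
    intro y hy
    refine mem_norm_of _ (fun x hx => ?_)
    have hya : y * a = a * y := D.Ya y hy.2
    rcases hcovP hx with h | h
    · exact hVP ((Subgroup.mem_normalizer_iff.1 hy.1 x).1 h)
    · have h1 : y * (a * x) * y⁻¹ ∈ V := (Subgroup.mem_normalizer_iff.1 hy.1 _).1 h
      have e : y * x * y⁻¹ = a⁻¹ * (y * (a * x) * y⁻¹) := by
        calc y * x * y⁻¹ = a⁻¹ * (a * y) * x * y⁻¹ := by group
          _ = a⁻¹ * (y * a) * x * y⁻¹ := by rw [hya]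
          _ = _ := by group
      rw [e]
      exact P.1.mul_mem (P.1.inv_mem haP) (hVP h1)
  -- the stabiliser of the involution in the normaliser
  have hM24 : Nat.card ↥(N ⊓ Subgroup.centralizer ({a} : Set G)) = 24 := by
    set M : Subgroup G := N ⊓ Subgroup.centralizer ({a} : Set G) with hM
    have hNYM : NY ≤ M := fun y hy => ⟨hNYN hy, Subgroup.mem_centralizer_singleton_iff.2 (D.Ya y hy.2)⟩
    have haM : a ∈ M := ⟨mem_norm_of _ (fun x hx => by
      rw [← hcomm_a hx]
      simpa using hx), Subgroup.mem_centralizer_singleton_iff.2 rfl⟩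
    have key : ∀ {y : G}, y ∈ M → y ∈ Y → y ∈ NY := by
      intro y hyM hyY
      exact ⟨mem_norm_of _ (fun v hv => ⟨hNP hyM.1 hv.1, Y.mul_mem (Y.mul_mem hyY hv.2) (Y.inv_mem hyY)⟩), hyY⟩
    have hcovM : ∀ {x : G}, x ∈ M → x ∈ NY ∨ a * x ∈ NY := by
      intro x hx
      have hxa : x * a = a * x := Subgroup.mem_centralizer_singleton_iff.1 hx.2
      rcases D.cov x hxa with h | h
      · exact Or.inl (key hx h)
      · exact Or.inr (key (M.mul_mem haM hx) h)
    obtain ⟨E⟩ := prod_two_G2 (⟨a, haM⟩ : ↥M) (Subtype.ext D.sq) (NY.subgroupOf M) (by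
        rintro y -
        exact Subtype.ext (Subgroup.mem_centralizer_singleton_iff.1 y.2.2).symm) (by
        intro h
        rw [Subgroup.mem_subgroupOf] at h
        exact D.aY h.2) (by
        intro g
        rcases hcovM g.2 with h | h
        · left
          rw [Subgroup.mem_subgroupOf]
          exact h
        · right
          rw [Subgroup.mem_subgroupOf]
          exact h)
    have h1 := Nat.card_congr E.toEquiv
    rw [Nat.card_prod, show Nat.card (Multiplicative (ZMod 2)) = Nat.card (ZMod 2) from Nat.card_congr Multiplicative.toAdd, Nat.card_zmod, Nat.card_congr (Subgroup.subgroupOfEquivOfLe hNYM).toEquiv, hNY12] at h1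
    omega
  -- the orbit of the involution
  have hOrb := card_orbit_conj N a
  rw [hM24] at hOrb
  have hOfin : {x : G | ∃ n ∈ N, x = n * a * n⁻¹}.Finite := Set.toFinite _
  rw [Set.ncard_eq_toFinset_card _ hOfin] at hOrb
  set OF : Finset G := hOfin.toFinset with hOF
  have hOFm : ∀ x, x ∈ OF ↔ ∃ n ∈ N, x = n * a * n⁻¹ := fun x => Set.Finite.mem_toFinset _
  -- the sets
  have hVfin : ((V : Subgroup G) : Set G).Finite := Set.toFinite _
  set T₁ : Finset G := hVfin.toFinset.erase 1 with hT₁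
  have hT1m : ∀ x, x ∈ T₁ ↔ x ≠ 1 ∧ x ∈ V := by
    intro x
    rw [hT₁, Finset.mem_erase, Set.Finite.mem_toFinset]
    rfl
  have hT1c : T₁.card = 3 := by
    have h1 : hVfin.toFinset.card = 4 := by
      rw [← Set.ncard_eq_toFinset_card _ hVfin, ← Nat.card_coe_set_eq]
      exact hV4
    rw [hT₁, Finset.card_erase_of_mem (by
      rw [Set.Finite.mem_toFinset]
      exact V.one_mem), h1]
  set T₂ : Finset G := T₁.image (fun v => a * v) with hT₂
  have hT2c : T₂.card = 3 := by rw [hT₂, Finset.card_image_of_injective _ (mul_right_injective a), hT1c]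
  have hT2m : ∀ x, x ∈ T₂ ↔ ∃ v ∈ T₁, a * v = x := by
    intro x
    rw [hT₂, Finset.mem_image]
  have hsa : s * a = a * s := D.Ya s hsNY.2
  have hsV : ∀ {v : G}, v ∈ V → s * v * s⁻¹ ∈ V := fun {v} hv => (Subgroup.mem_normalizer_iff.1 hsNY.1 v).1 hv
  have hsfix : ∀ {v : G}, v ∈ V → v ≠ 1 → s * v * s⁻¹ ≠ v := by
    intro v hv hv1 e
    have hc : s * v = v * s := by
      calc s * v = (s * v * s⁻¹) * s := by group
        _ = v * s := by rw [e]
    exact D.no3 v (hVY hv) s hsNY.2 (hVe v hv) hv1 hs3 hs1 hc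
  have hsT1 : ∀ x ∈ T₁, s * x * s⁻¹ ∈ T₁ := by
    intro x hx
    obtain ⟨h1, h2⟩ := (hT1m x).1 hx
    refine (hT1m _).2 ⟨fun e => h1 ?_, hsV h2⟩
    have : x = s⁻¹ * (s * x * s⁻¹) * s := by group
    rw [this, e]
    group
  have hsT1' : ∀ x ∈ T₁, s * x * s⁻¹ ≠ x := fun x hx => hsfix ((hT1m x).1 hx).2 ((hT1m x).1 hx).1
  have hs_av : ∀ v : G, s * (a * v) * s⁻¹ = a * (s * v * s⁻¹) := by
    intro v
    calc s * (a * v) * s⁻¹ = (s * a) * v * s⁻¹ := by group
      _ = (a * s) * v * s⁻¹ := by rw [hsa]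
      _ = _ := by group
  have hsT2 : ∀ x ∈ T₂, s * x * s⁻¹ ∈ T₂ := by
    intro x hx
    obtain ⟨v, hv, rfl⟩ := (hT2m x).1 hx
    exact (hT2m _).2 ⟨_, hsT1 v hv, (hs_av v).symm⟩
  have hsT2' : ∀ x ∈ T₂, s * x * s⁻¹ ≠ x := by
    intro x hx e
    obtain ⟨v, hv, rfl⟩ := (hT2m x).1 hx
    rw [hs_av] at e
    exact hsT1' v hv (mul_left_cancel e)
  have hOs : ∀ {x : G}, x ∈ OF → s * x * s⁻¹ ∈ OF := by
    intro x hx
    obtain ⟨n, hn, rfl⟩ := (hOFm x).1 hx
    refine (hOFm _).2 ⟨s * n, N.mul_mem (hNYN hsNY) hn, ?_⟩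
    group
  have hclose : ∀ T : Finset G, T.card = 3 → (∀ x ∈ T, s * x * s⁻¹ ∈ T) → (∀ x ∈ T, s * x * s⁻¹ ≠ x) →
      (OF ∩ T).card = 0 ∨ (OF ∩ T).card = 3 := by
    intro T hT hinv hfix
    by_cases h : ∃ x ∈ T, x ∈ OF
    · right
      obtain ⟨x, hx, hxO⟩ := h
      have hsub : T ⊆ OF := by
        intro y hy
        rcases three_orbit T hT s hs3 hinv hfix hx hy with rfl | rfl | rfl
        · exact hxO
        · exact hOs hxO
        · exact hOs (hOs hxO)
      rw [Finset.inter_eq_right.2 hsub, hT]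
    · left
      push_neg at h
      rw [Finset.card_eq_zero, Finset.eq_empty_iff_forall_notMem]
      intro x hx
      rw [Finset.mem_inter] at hx
      exact h x hx.2 hx.1
  have haOF : a ∈ OF := (hOFm a).2 ⟨1, N.one_mem, by group⟩
  have hOP : ∀ {x : G}, x ∈ OF → x ∈ P ∧ x ≠ 1 := by
    intro x hx
    obtain ⟨n, hn, rfl⟩ := (hOFm x).1 hx
    refine ⟨hNP hn haP, fun e => ha1 ?_⟩
    have : a = n⁻¹ * (n * a * n⁻¹) * n := by group
    rw [this, e]
    group
  have hdecomp : OF = insert a ((OF ∩ T₁) ∪ (OF ∩ T₂)) := by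
    ext x
    simp only [Finset.mem_insert, Finset.mem_union, Finset.mem_inter]
    constructor
    · intro hx
      obtain ⟨h1, h2⟩ := hOP hx
      rcases hcovP h1 with h | h
      · exact Or.inr (Or.inl ⟨hx, (hT1m x).2 ⟨h2, h⟩⟩)
      · by_cases hxa : x = a
        · exact Or.inl hxa
        · refine Or.inr (Or.inr ⟨hx, (hT2m x).2 ⟨a * x, (hT1m _).2 ⟨fun e => hxa ?_, h⟩, ?_⟩⟩)
          · have : x = a⁻¹ * (a * x) := by group
            rw [this, e, D.a_inv, mul_one]
          · rw [← mul_assoc, D.sq, one_mul]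
    · rintro (rfl | ⟨h, -⟩ | ⟨h, -⟩)
      · exact haOF
      · exact h
      · exact h
  have haT1 : a ∉ T₁ := fun h => D.aY ((hT1m a).1 h).2.2
  have haT2 : a ∉ T₂ := by
    intro h
    obtain ⟨v, hv, e⟩ := (hT2m a).1 h
    have : v = 1 := by simpa using e
    exact ((hT1m v).1 hv).1 this
  have hdisj : Disjoint (OF ∩ T₁) (OF ∩ T₂) := by
    rw [Finset.disjoint_left]
    intro x hx hx'
    have h1 := ((hT1m x).1 (Finset.mem_inter.1 hx).2).2
    obtain ⟨v, hv, rfl⟩ := (hT2m x).1 (Finset.mem_inter.1 hx').2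
    have h2 := ((hT1m v).1 hv).2
    apply D.aY
    have : a = a * v * v⁻¹ := by group
    rw [this]
    exact Y.mul_mem h1.2 (Y.inv_mem h2.2)
  have hcard : OF.card = 1 + (OF ∩ T₁).card + (OF ∩ T₂).card := by
    conv_lhs => rw [hdecomp]
    rw [Finset.card_insert_of_notMem, Finset.card_union_of_disjoint hdisj]
    · ring
    · intro h
      rw [Finset.mem_union] at h
      rcases h with h | h
      · exact haT1 (Finset.mem_inter.1 h).2
      · exact haT2 (Finset.mem_inter.1 h).2
  have hc1 := hclose T₁ hT1c hsT1 hsT1'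
  have hc2 := hclose T₂ hT2c hsT2 hsT2'
  have hdvd : Nat.card N ∣ 8 * t := by
    rw [← D.card]
    exact Subgroup.card_subgroup_dvd_card _
  have hodd : ¬ 2 ∣ OF.card := by
    rintro ⟨k, hk⟩
    rw [hOrb, hk] at hdvd
    obtain ⟨j, hj⟩ := D.odd
    obtain ⟨l, hl⟩ := hdvd
    rw [hj] at hl
    have : 8 * (2 * j + 1) = 16 * (3 * k * l) := by rw [hl]; ring
    omega
  rcases hc1 with hc1 | hc1 <;> rcases hc2 with hc2 | hc2
  · exfalso
    have hOa : ∀ {x : G}, x ∈ OF → x = a := by
      intro x hx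
      have hx' : x ∈ insert a ((OF ∩ T₁) ∪ (OF ∩ T₂)) := hdecomp ▸ hx
      rw [Finset.mem_insert, Finset.mem_union] at hx'
      rcases hx' with h | h | h
      · exact h
      · exfalso
        have := Finset.card_pos.2 ⟨x, h⟩
        omega
      · exfalso
        have := Finset.card_pos.2 ⟨x, h⟩
        omega
    have hNC : ∀ {n : G}, n ∈ N → n * a = a * n := by
      intro n hn
      have h1 : n * a * n⁻¹ = a := hOa ((hOFm _).2 ⟨n, hn, rfl⟩)
      calc n * a = (n * a * n⁻¹) * n := by group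
        _ = a * n := by rw [h1]
    have hnV : ∀ {n v : G}, n ∈ N → v ∈ V → n * v * n⁻¹ ∈ V := by
      intro n v hn hv
      refine ⟨hNP hn hv.1, ?_⟩
      rcases D.cov n (hNC hn) with h | h
      · exact Y.mul_mem (Y.mul_mem h hv.2) (Y.inv_mem h)
      · have h1 : (a * n) * v * (a * n)⁻¹ ∈ Y := Y.mul_mem (Y.mul_mem h hv.2) (Y.inv_mem h)
        have e : (a * n) * v * (a * n)⁻¹ = a * (n * v * n⁻¹) * a⁻¹ := by group
        have hw := hcomm_a (hNP hn hv.1)
        rw [e, ← hw] at h1
        simpa using h1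
    have hSyl : Lib.Techniques.SylowIn 2 (P : Subgroup G) ⊤ :=
      ⟨le_top, P.isPGroup', by
        rw [Subgroup.relIndex_top_right]
        exact P.not_dvd_index⟩
    have hfoc : (P : Subgroup G).focalSubgroup ≤ V := by
      rw [Subgroup.focalSubgroup_def, Subgroup.closure_le]
      rintro g ⟨hgP, x, hxP, u, rfl⟩
      have hzP : x⁻¹ ∈ P := P.1.inv_mem hxP
      have huz : u * x⁻¹ * u⁻¹ ∈ P := by
        have e : u * x⁻¹ * u⁻¹ = x⁻¹ * ⁅x, u⁆ := by
          rw [commutatorElement_def]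
          group
        rw [e]
        exact P.1.mul_mem hzP hgP
      obtain ⟨n, hn, hnz⟩ := Lib.Techniques.burnside_fusion (p := 2) hSyl (x := x⁻¹) (y := u * x⁻¹ * u⁻¹) (g := u)
        (fun w hw => hab hw hzP) (fun w hw => hab hw huz) rfl
      have e : ⁅x, u⁆ = (x⁻¹)⁻¹ * (n * x⁻¹ * n⁻¹) := by
        rw [hnz, commutatorElement_def]
        group
      show ⁅x, u⁆ ∈ V
      rw [e]
      rcases hcovP hzP with h | h
      · exact V.mul_mem (V.inv_mem h) (hnV hn h)
      · have h2 := hnV hn h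
        have e2 : (x⁻¹)⁻¹ * (n * x⁻¹ * n⁻¹) = (a * x⁻¹)⁻¹ * (n * (a * x⁻¹) * n⁻¹) := by
          calc (x⁻¹)⁻¹ * (n * x⁻¹ * n⁻¹) = (x⁻¹)⁻¹ * a⁻¹ * (a * n) * x⁻¹ * n⁻¹ := by group
            _ = (x⁻¹)⁻¹ * a⁻¹ * (n * a) * x⁻¹ * n⁻¹ := by rw [hNC hn]
            _ = _ := by group
        rw [e2]
        exact V.mul_mem (V.inv_mem h) h2
    have hf := Subgroup.commutator_inf_eq_focalSubgroup P
    rw [D.perf, top_inf_eq] at hf
    exact D.aY (hVY (hfoc (hf ▸ haP)))
  · exfalso
    apply hodd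
    rw [hcard, hc1, hc2]
    norm_num
  · exfalso
    apply hodd
    rw [hcard, hc1, hc2]
    norm_num
  · rw [hOrb, hcard, hc1, hc2]

end

end Cfsg.Agent.Lib.Chev
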