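/-
The group ²G₂(q): the centraliser and the normaliser of a Sylow 2-subgroup.
-/
import Cfsg.Agent.Lib.Coll.G2CE

set_option autoImplicit false

namespace Cfsg.Agent.Lib.Chev

open Cfsg.Lie
open scoped Pointwise

section

variable {F : Type*} [Field F]

open Cfsg.Agent.Lib.Classical.P2 in
/-- No element of order three commutes with an involution in `PSL₂(q)`, `q ≡ 3 (mod 4)`, `3 ∣ q`. -/
lemma psl_no3 [Fintype F] (h2 : (2 : F) ≠ 0) (hq : Fintype.card F % 4 = 3) (hq3 : 3 ∣ Fintype.card F)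
    {t s : Matrix.ProjectiveSpecialLinearGroup (Fin 2) F} (ht : t * t = 1) (ht1 : t ≠ 1) (hs3 : s ^ 3 = 1) (hs1 : s ≠ 1) (hc : s * t = t * s) : False := by
  have ho : orderOf t = 2 := orderOf_eq_prime (by rw [pow_two]; exact ht) ht1
  obtain ⟨g, rfl, hg⟩ := exists_lift_isI h2 ho
  obtain ⟨x, rfl⟩ := QuotientGroup.mk_surjective s
  have hc' := hc
  rw [← QuotientGroup.mk_mul, ← QuotientGroup.mk_mul, mk_eq_iff h2] at hc'
  have hy : x * x * g = g * (x * x) := by
    rcases hc' with hc' | hc'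
    · calc x * x * g = x * (x * g) := by group
        _ = x * (g * x) := by rw [hc']
        _ = (x * g) * x := by group
        _ = (g * x) * x := by rw [hc']
        _ = g * (x * x) := by group
    · have hm := mO_comm (F := F)
      symm
      calc g * (x * x) = (g * x) * x := by group
        _ = mO * (x * g) * x := by rw [hc']
        _ = mO * x * (g * x) := by group
        _ = mO * x * (mO * (x * g)) := by rw [hc']
        _ = mO * (x * mO) * x * g := by group
        _ = mO * (mO * x) * x * g := by rw [hm]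
        _ = (mO * mO) * (x * x) * g := by group
        _ = x * x * g := by rw [mO_mul_mO, one_mul]
  have hmem : x * x ∈ Subgroup.centralizer ({g} : Set (Matrix.SpecialLinearGroup (Fin 2) F)) :=
    Subgroup.mem_centralizer_singleton_iff.2 hy
  have hcard := card_centralizer_three h2 hg hq
  have hd : orderOf (⟨x * x, hmem⟩ : ↥(Subgroup.centralizer ({g} : Set (Matrix.SpecialLinearGroup (Fin 2) F)))) ∣ Fintype.card F + 1 := by
    rw [← hcard]
    exact orderOf_dvd_natCard _
  have hoy : orderOf (⟨x * x, hmem⟩ : ↥(Subgroup.centralizer ({g} : Set (Matrix.SpecialLinearGroup (Fin 2) F)))) = orderOf (x * x) := Subgroup.orderOf_mk _ _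
  have hmap : orderOf (QuotientGroup.mk (x * x) : Matrix.ProjectiveSpecialLinearGroup (Fin 2) F) ∣ orderOf (x * x) :=
    orderOf_map_dvd (QuotientGroup.mk' _) _
  set s : Matrix.ProjectiveSpecialLinearGroup (Fin 2) F := QuotientGroup.mk x with hsd
  have hss : (QuotientGroup.mk (x * x) : Matrix.ProjectiveSpecialLinearGroup (Fin 2) F) = s ^ 2 := by
    rw [QuotientGroup.mk_mul, pow_two]
  have ho3 : orderOf (QuotientGroup.mk (x * x) : Matrix.ProjectiveSpecialLinearGroup (Fin 2) F) = 3 := by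
    rw [hss]
    haveI : Fact (Nat.Prime 3) := ⟨Nat.prime_three⟩
    refine orderOf_eq_prime ?_ ?_
    · rw [← pow_mul, mul_comm, pow_mul, hs3, one_pow]
    · intro e
      apply hs1
      have e2 : s = s ^ 3 * (s ^ 2)⁻¹ := by
        rw [pow_succ s 2]
        group
      rw [e2, hs3, e]
      group
  rw [ho3] at hmap
  rw [hoy] at hd
  have h5 : 3 ∣ Fintype.card F + 1 := hmap.trans hd
  omega

open Cfsg.Agent.Lib.Classical in
open Cfsg.Agent.Lib.Classical.P2 in
/-- The normaliser of a four-subgroup of `PSL₂(q)`, `q ≡ 3 (mod 8)`. -/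
lemma psl_n12 [Fintype F] (h2 : (2 : F) ≠ 0) {u : ℕ} (hu : Odd u)
    (hq : Nat.card (Matrix.ProjectiveSpecialLinearGroup (Fin 2) F) = 4 * u)
    (hexp : ∀ p : Matrix.ProjectiveSpecialLinearGroup (Fin 2) F, p ^ 8 = 1 → p * p = 1)
    {W : Subgroup (Matrix.ProjectiveSpecialLinearGroup (Fin 2) F)} (hW : Nat.card W = 4) :
    Nat.card (Subgroup.normalizer (W : Set (Matrix.ProjectiveSpecialLinearGroup (Fin 2) F))) = 12 := by
  haveI : Fact (Nat.Prime 2) := ⟨Nat.prime_two⟩
  have hcard4 : ∀ S : Sylow 2 (Matrix.ProjectiveSpecialLinearGroup (Fin 2) F), Nat.card S = 4 := by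
    intro S
    have h4 : 2 ^ 2 ∣ Nat.card (Matrix.ProjectiveSpecialLinearGroup (Fin 2) F) := by
      rw [hq]
      exact Dvd.intro _ rfl
    have h1 := S.pow_dvd_card_of_pow_dvd_card h4
    obtain ⟨n, hn⟩ := IsPGroup.iff_card.1 S.isPGroup'
    have h5 : Nat.card S ∣ 4 * u := by
      rw [← hq]
      exact Subgroup.card_subgroup_dvd_card _
    have h3 : Nat.Coprime (Nat.card S) u := by
      rw [hn]
      exact Nat.Coprime.pow_left _ (Nat.coprime_two_left.2 hu)
    exact Nat.dvd_antisymm (h3.dvd_of_dvd_mul_right h5) h1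
  have hW2 : IsPGroup 2 W := IsPGroup.of_card (n := 2) (by rw [hW]; rfl)
  obtain ⟨P, hP⟩ := hW2.exists_le_sylow
  have e : W = P := Subgroup.eq_of_le_of_card_ge hP (by rw [hW]; exact (hcard4 P).le)
  have hKl : ∀ S : Sylow 2 (Matrix.ProjectiveSpecialLinearGroup (Fin 2) F), IsKleinFour (S : Subgroup (Matrix.ProjectiveSpecialLinearGroup (Fin 2) F)) := by
    intro S
    refine klein_of_card (hcard4 S) (fun z hz => hexp z ?_)
    have := pow_card_eq_one' (G := S) (x := ⟨z, hz⟩)
    rw [hcard4 S] at this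
    have e2 : z ^ 4 = 1 := congrArg Subtype.val this
    have : z ^ 8 = (z ^ 4) ^ 2 := by rw [← pow_mul]
    rw [this, e2, one_pow]
  let f : Sylow 2 (Matrix.ProjectiveSpecialLinearGroup (Fin 2) F) → {V : Subgroup (Matrix.ProjectiveSpecialLinearGroup (Fin 2) F) // IsKleinFour V} :=
    fun S => ⟨S, hKl S⟩
  have hf : Function.Bijective f := by
    constructor
    · intro S S' h
      exact Sylow.ext (congrArg Subtype.val h)
    · rintro ⟨V, hV⟩
      have hV4 : Nat.card V = 4 := IsKleinFour.card_four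
      have hV2 : IsPGroup 2 V := IsPGroup.of_card (n := 2) (by rw [hV4]; rfl)
      obtain ⟨Q, hQ⟩ := hV2.exists_le_sylow
      have e3 : V = Q := Subgroup.eq_of_le_of_card_ge hQ (by rw [hV4]; exact (hcard4 Q).le)
      exact ⟨Q, Subtype.ext e3.symm⟩
  have h1 := card_klein h2 (F := F)
  rw [← Nat.card_congr (Equiv.ofBijective f hf), P.card_eq_index_normalizer] at h1
  have h4 := Subgroup.card_mul_index (Subgroup.normalizer ((P : Subgroup (Matrix.ProjectiveSpecialLinearGroup (Fin 2) F)) : Set (Matrix.ProjectiveSpecialLinearGroup (Fin 2) F)))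
  rw [e]
  have hpos : 0 < (Subgroup.normalizer ((P : Subgroup (Matrix.ProjectiveSpecialLinearGroup (Fin 2) F)) : Set (Matrix.ProjectiveSpecialLinearGroup (Fin 2) F))).index := Nat.pos_of_ne_zero (Subgroup.index_ne_zero_of_finite)
  have h6 : Nat.card ↥(Subgroup.normalizer ((P : Subgroup (Matrix.ProjectiveSpecialLinearGroup (Fin 2) F)) : Set (Matrix.ProjectiveSpecialLinearGroup (Fin 2) F))) *
      (Subgroup.normalizer ((P : Subgroup (Matrix.ProjectiveSpecialLinearGroup (Fin 2) F)) : Set (Matrix.ProjectiveSpecialLinearGroup (Fin 2) F))).index =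
      12 * (Subgroup.normalizer ((P : Subgroup (Matrix.ProjectiveSpecialLinearGroup (Fin 2) F)) : Set (Matrix.ProjectiveSpecialLinearGroup (Fin 2) F))).index :=
    h4.trans h1.symm
  exact Nat.eq_of_mul_eq_mul_right hpos h6

end

section

variable {G : Type*} [Group G] {a : G} {Y : Subgroup G} {t : ℕ}

/-- The statement for all Sylow subgroups. -/
theorem CentDat.main [Finite G] (D : CentDat a Y t) (S : Sylow 2 G) :
    Subgroup.centralizer ((S : Subgroup G) : Set G) = S ∧ Nat.card (Subgroup.normalizer ((S : Subgroup G) : Set G)) = 168 := by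
  haveI : Fact (Nat.Prime 2) := ⟨Nat.prime_two⟩
  obtain ⟨P, hP⟩ := exists_sylow_centr a D.odd D.card D.c8
  obtain ⟨hC, hN⟩ := D.main_P P hP
  obtain ⟨g, rfl⟩ := MulAction.exists_smul_eq G P S
  have hS : ((g • P : Sylow 2 G) : Subgroup G) = (P : Subgroup G).map (MulAut.conj g).toMonoidHom := by
    rw [Sylow.coe_subgroup_smul]
    rfl
  obtain ⟨-, hSe⟩ := sylow_exp_of a D.odd D.card D.c8 (fun x hc h8 => D.exp' hc h8) (g • P)
  constructor
  · apply le_antisymm
    · intro x hx
      show x ∈ ((g • P : Sylow 2 G) : Subgroup G)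
      rw [hS]
      have h1 : g⁻¹ * x * g ∈ Subgroup.centralizer ((P : Subgroup G) : Set G) := by
        rw [Subgroup.mem_centralizer_iff]
        intro p hp
        have hm : g * p * g⁻¹ ∈ (((g • P : Sylow 2 G) : Subgroup G) : Set G) := by
          rw [hS]
          exact ⟨p, hp, rfl⟩
        have e := (Subgroup.mem_centralizer_iff.1 hx) _ hm
        calc p * (g⁻¹ * x * g) = g⁻¹ * ((g * p * g⁻¹) * x) * g := by group
          _ = g⁻¹ * (x * (g * p * g⁻¹)) * g := by rw [e]
          _ = _ := by group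
      rw [hC] at h1
      exact ⟨_, h1, by
        show g * (g⁻¹ * x * g) * g⁻¹ = x
        group⟩
    · intro x hx
      exact Subgroup.mem_centralizer_iff.2 (fun y hy => comm_of_exp hSe hy hx)
  · rw [hS, ← Subgroup.map_equiv_normalizer_eq, Subgroup.card_map_of_injective (MulAut.conj g).injective]
    exact hN

/-- Transport of the normaliser in a subgroup under an isomorphism. -/
lemma n12_transport {H : Type*} [Group H] [Finite G] (Y : Subgroup G) (E : ↥Y ≃* H) (V : Subgroup G) (hVY : V ≤ Y) :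
    Nat.card ↥(Subgroup.normalizer (V : Set G) ⊓ Y) =
      Nat.card (Subgroup.normalizer (((V.subgroupOf Y).map E.toMonoidHom : Subgroup H) : Set H)) ∧
    Nat.card ↥((V.subgroupOf Y).map E.toMonoidHom) = Nat.card V := by
  constructor
  · have h1 : (Subgroup.normalizer (V : Set G)).subgroupOf Y = Subgroup.normalizer ((V.subgroupOf Y : Subgroup ↥Y) : Set ↥Y) := by
      ext x
      rw [Subgroup.mem_subgroupOf]
      constructor
      · intro hx
        rw [Subgroup.mem_normalizer_iff]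
        intro h
        rw [Subgroup.mem_subgroupOf, Subgroup.mem_subgroupOf]
        exact (Subgroup.mem_normalizer_iff.1 hx) h
      · intro hx
        refine mem_norm_of _ (fun v hv => ?_)
        have h2 := (Subgroup.mem_normalizer_iff.1 hx) ⟨v, hVY hv⟩
        rw [Subgroup.mem_subgroupOf, Subgroup.mem_subgroupOf] at h2
        exact h2.1 hv
    rw [← Subgroup.map_equiv_normalizer_eq, Subgroup.card_map_of_injective E.injective, ← h1]
    have h6 : Nat.card ↥(((Subgroup.normalizer (V : Set G)).subgroupOf Y).map Y.subtype) = Nat.card ↥((Subgroup.normalizer (V : Set G)).subgroupOf Y) :=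
      Subgroup.card_map_of_injective (Subgroup.subtype_injective Y)
    rw [Subgroup.subgroupOf_map_subtype] at h6
    exact h6
  · rw [Subgroup.card_map_of_injective E.injective]
    exact Nat.card_congr (Subgroup.subgroupOfEquivOfLe hVY).toEquiv

end

section

variable {K : Type*} [Field K] [CharP K 3] {hperf : ∀ x : K, ∃ y : K, y ^ 3 = x} {φ : K ≃+* K}

lemma Y_comm_a (hφ : ∀ x, φ (φ (x ^ 3)) = x) {a : GL chevG2.Idx K} (ha : IsInvG2 hperf φ a) {y : GL chevG2.Idx K} (hy : y ∈ YG2 hperf φ) :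
    y * a = a * y := by
  have hcl : YG2 hperf φ ≤ Subgroup.centralizer ({a} : Set (GL chevG2.Idx K)) := by
    refine (Subgroup.closure_le _).2 ?_
    rintro g ((⟨c, rfl⟩ | hg) | hg)
    · exact Subgroup.mem_centralizer_singleton_iff.2 (a_comm_ru hφ ha c).symm
    · rw [Set.mem_singleton_iff.1 hg]
      exact Subgroup.mem_centralizer_singleton_iff.2 (a_comm_n0 hφ ha).symm
    · exact Subgroup.mem_centralizer_singleton_iff.2 (a_comm_H ha hg.1.1).symm
  exact Subgroup.mem_centralizer_singleton_iff.1 (hcl hy)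

/-- Numerics of `PSL₂(q)`. -/
lemma psl_num [Fintype K] {m : ℕ} (hK : Fintype.card K = 3 ^ (2 * m + 1)) :
    ∃ u, Odd u ∧ Nat.card (Matrix.ProjectiveSpecialLinearGroup (Fin 2) K) = 4 * u := by
  have h1 : 3 ^ (2 * m + 1) % 8 = 3 := by
    rw [pow_succ, pow_mul, Nat.mul_mod, Nat.pow_mod]
    norm_num [Nat.pow_mod]
  obtain ⟨k, hk⟩ : ∃ k, 3 ^ (2 * m + 1) = 8 * k + 3 := ⟨3 ^ (2 * m + 1) / 8, by omega⟩
  have h2 := Classical.P2.card_PSL2 (two_ne_K (K := K))
  rw [hK, hk] at h2
  have e : 8 * k + 3 - 1 = 2 * (4 * k + 1) := by omega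
  rw [e] at h2
  refine ⟨(8 * k + 3) * (4 * k + 1) * (2 * k + 1), ?_, ?_⟩
  · refine Odd.mul (Odd.mul ?_ ?_) ?_
    · exact ⟨4 * k + 1, by ring⟩
    · exact ⟨2 * k, by ring⟩
    · exact ⟨k, by ring⟩
  · have h3 : 2 * (4 * ((8 * k + 3) * (4 * k + 1) * (2 * k + 1))) = (8 * k + 3) * (2 * (4 * k + 1) * (8 * k + 3 + 1)) := by ring
    omega

/-- The data for the group. -/
theorem centDat_G2 [Fintype K] {m : ℕ} (hm : 1 ≤ m) (hK : Fintype.card K = 3 ^ (2 * m + 1)) (hφ : ∀ x, φ (φ (x ^ 3)) = x)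
    {a : ↥(twG2 hperf φ).fix} (ha : IsInvG2 hperf φ (a : GL chevG2.Idx K)) {t : ℕ} (ht : Odd t) (hc : Nat.card ↥(twG2 hperf φ).fix = 8 * t) :
    CentDat a ((YG2 hperf φ).subgroupOf (twG2 hperf φ).fix) t := by
  obtain ⟨F⟩ := Y_iso_PSL (hperf := hperf) hφ
  have E : ↥((YG2 hperf φ).subgroupOf (twG2 hperf φ).fix) ≃* Matrix.ProjectiveSpecialLinearGroup (Fin 2) K :=
    (Subgroup.subgroupOfEquivOfLe (Y_le_fix hφ)).trans F
  have hexpP : ∀ p : Matrix.ProjectiveSpecialLinearGroup (Fin 2) K, p ^ 8 = 1 → p * p = 1 :=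
    psl_eight (two_ne_K (K := K)) (three_eq_zero (K := K)) (neg_not_sq hK)
  have hq4 : Fintype.card K % 4 = 3 := by
    rw [hK, pow_succ, pow_mul]
    norm_num [Nat.mul_mod, Nat.pow_mod]
  have hq3 : 3 ∣ Fintype.card K := by
    rw [hK, pow_succ]
    exact Dvd.intro_left _ rfl
  obtain ⟨s, hs0, hs1⟩ := exists_sq_ne hm hK
  refine ⟨Subtype.ext ha.sq, ?_, ?_, ?_, ht, hc, ?_, ?_, ?_, ?_, ?_⟩
  · intro y hy
    exact Subtype.ext (Y_comm_a hφ ha hy)
  · exact a_not_Y hφ ha
  · intro g hg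
    have h := C_form hφ (sq_or_neg_sq hK) ha g.2 (congrArg Subtype.val hg).symm
    rcases h with h | h
    · exact Or.inl h
    · exact Or.inr h
  · rw [card_centr_G2 hK hφ ha, Classical.P2.card_PSL2 (two_ne_K (K := K)), hK]
    exact centr_num m
  · intro y hy h8
    exact Subtype.ext (Y_exp hK hφ hy (congrArg Subtype.val h8))
  · intro u hu v hv h1 h2 h3 h4 h5
    refine psl_no3 (two_ne_K (K := K)) hq4 hq3 (t := E ⟨u, hu⟩) (s := E ⟨v, hv⟩) ?_ ?_ ?_ ?_ ?_
    · rw [← map_mul]
      have : (⟨u, hu⟩ * ⟨u, hu⟩ : ↥((YG2 hperf φ).subgroupOf (twG2 hperf φ).fix)) = 1 := Subtype.ext h1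
      rw [this, map_one]
    · intro e
      exact h2 (congrArg Subtype.val ((map_eq_one_iff E E.injective).1 e))
    · rw [← map_pow]
      have : (⟨v, hv⟩ : ↥((YG2 hperf φ).subgroupOf (twG2 hperf φ).fix)) ^ 3 = 1 := Subtype.ext h3
      rw [this, map_one]
    · intro e
      exact h4 (congrArg Subtype.val ((map_eq_one_iff E E.injective).1 e))
    · rw [← map_mul, ← map_mul]
      exact congrArg E (Subtype.ext h5)
  · intro V hVY hV4 hVe
    obtain ⟨h1, h2⟩ := n12_transport _ E V hVY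
    rw [h1]
    obtain ⟨u, hu, hcu⟩ := psl_num hK
    exact psl_n12 (two_ne_K (K := K)) hu hcu hexpP (by rw [h2, hV4])
  · exact perfectG2 hperf φ hφ (sq_or_neg_sq hK) hs0 hs1

/-- The main statement at the level of the fixed points. -/
theorem main_S1157 [Fintype K] {m : ℕ} (hm : 1 ≤ m) (hK : Fintype.card K = 3 ^ (2 * m + 1)) (hφ : ∀ x, φ (φ (x ^ 3)) = x)
    {G1 : Subgroup (GL chevG2.Idx K)} (hG1 : G1 = (twG2 hperf φ).fix) (S : Sylow 2 ↥G1) :
    Subgroup.centralizer ((S : Subgroup ↥G1) : Set ↥G1) = S ∧ Nat.card (Subgroup.normalizer ((S : Subgroup ↥G1) : Set ↥G1)) = 168 := by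
  subst hG1
  obtain ⟨z, hz⟩ := (chiFix_bij hperf φ hφ (sq_or_neg_sq hK)).2 (-1)
  have hz7 : (chi7 (⟨z.1, z.2.1⟩ : ↥(chevG2.diagonalSubgroup K)) : Kˣ) = -1 := hz
  have ha : IsInvG2 hperf φ ((⟨z.1, z.2.2⟩ : ↥(twG2 hperf φ).fix) : GL chevG2.Idx K) := by
    refine ⟨z.2, ?_, ?_⟩
    · intro e
      have e1 : (⟨z.1, z.2.1⟩ : ↥(chevG2.diagonalSubgroup K)) = 1 := Subtype.ext e
      rw [e1, map_one] at hz7
      have := congrArg Units.val hz7
      exact neg_one_ne_one_K (K := K) (by simpa using this.symm)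
    · have e := eq_of_chi7 hperf φ (z := (⟨z.1, z.2.1⟩ : ↥(chevG2.diagonalSubgroup K)) * ⟨z.1, z.2.1⟩) (z' := 1)
        (Subgroup.mul_mem _ z.2.2 z.2.2) (Subgroup.one_mem _) (by rw [map_mul, hz7, map_one]; simp)
      exact congrArg Subtype.val e
  obtain ⟨t, ht, e⟩ := order_num m
  have hG := orderRee2G2 hperf φ hK hφ
  rw [e] at hG
  exact (centDat_G2 hm hK hφ ha ht hG).main S

end

end Cfsg.Agent.Lib.Chev
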