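/-
`G₂(q)`, `q` odd: all involutions are conjugate.
-/
import Cfsg.Agent.Lib.Coll.G2OddC

set_option autoImplicit false

namespace Cfsg.Agent.Lib.Coll.G2Odd

open Cfsg.Lie Cfsg.Agent.Lib.Chev

/-- The elements of the Weyl group. -/
def L12 : List (List ℕ) :=
  [[], [0], [1], [0, 1], [1, 0], [0, 1, 0], [1, 0, 1], [0, 1, 0, 1], [1, 0, 1, 0], [0, 1, 0, 1, 0], [1, 0, 1, 0, 1], [0, 1, 0, 1, 0, 1]]

/-- The elements of the Weyl group of order at most two. -/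
def L8 : List (List ℕ) :=
  [[], [0], [1], [0, 1, 0], [1, 0, 1], [0, 1, 0, 1, 0], [1, 0, 1, 0, 1], [0, 1, 0, 1, 0, 1]]

lemma L12_step : ∀ l ∈ L12, ∀ i, i < 2 → ∃ l' ∈ L12, ∀ r, r < chevG2.nroots →
    digG2.tbl.refl i (wperm digG2.tbl l r) = wperm digG2.tbl l' r := by decide +kernel

lemma L12_rev : ∀ l ∈ L12, ∀ r, r < chevG2.nroots → wperm digG2.tbl l (wperm digG2.tbl l.reverse r) = r := by
  decide +kernel

lemma L12_inv : ∀ l ∈ L12, (∀ r, r < chevG2.nroots → wperm digG2.tbl l (wperm digG2.tbl l r) = r) → l ∈ L8 := by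
  decide +kernel

lemma L12_idx : ∀ l ∈ L12, ∀ i ∈ l, i < chevG2.rank := by decide +kernel

lemma rank_eq : chevG2.rank = 2 := by decide +kernel

lemma canon_L12 (l : List ℕ) (hl : ∀ i ∈ l, i < chevG2.rank) :
    ∃ l' ∈ L12, ∀ r, r < chevG2.nroots → wperm digG2.tbl l r = wperm digG2.tbl l' r := by
  induction l with
  | nil => exact ⟨[], by decide, fun r _ => rfl⟩
  | cons i l ih =>
    obtain ⟨l', hl', e⟩ := ih fun j hj => hl j (List.mem_cons_of_mem _ hj)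
    have hi : i < 2 := by
      have := hl i (by simp)
      rwa [rank_eq] at this
    obtain ⟨l'', hl'', e'⟩ := L12_step l' hl' i hi
    refine ⟨l'', hl'', fun r hr => ?_⟩
    rw [wperm_cons, e r hr, e' r hr]

variable {F : Type*} [Field F]

/-- The case of an element of `N` over the longest element of the Weyl group. -/
lemma caseW0 [Fintype F] (hF : Odd (Fintype.card F)) {h : GL chevG2.Idx F} (hh : h ∈ chevG2.diagonalSubgroup F)
    (hsq : (h * hG2.nProd [0, 1, 0, 1, 0, 1]) * (h * hG2.nProd [0, 1, 0, 1, 0, 1]) = 1)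
    (hne : h * hG2.nProd [0, 1, 0, 1, 0, 1] ≠ 1) :
    ∃ g ∈ chevG2.group F, g * (h * hG2.nProd [0, 1, 0, 1, 0, 1]) * g⁻¹ = t0 F := by
  have h2 := two_ne hF
  have hl : ∀ i ∈ [0, 1, 0, 1, 0, 1], i < chevG2.rank := by decide +kernel
  obtain ⟨c, hc, e1, e2⟩ := rev_of_perm hG2 hh hl lt7 (by decide +kernel) hsq
  obtain ⟨c', hc', e1', e2'⟩ := rev_of_perm hG2 hh hl lt6 (by decide +kernel) hsq
  have hlam : c⁻¹ ≠ 0 := inv_ne_zero hc
  obtain ⟨u, z, hnorm⟩ := norm_sol hF hc' hlam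
  obtain ⟨g₁, hg₁, eg₁⟩ := tw_step_lam hG2 rank1G2 lt6 hc' hlam hnorm e1' e2'
  obtain ⟨n, hn⟩ : ∃ n, n = h * hG2.nProd [0, 1, 0, 1, 0, 1] := ⟨_, rfl⟩
  rw [← hn] at hsq hne e1 e2 eg₁ ⊢
  have conj2 : ∀ a b x : GL chevG2.Idx F, (a * b) * x * (a * b)⁻¹ = a * (b * x * b⁻¹) * a⁻¹ := by
    intro a b x
    group
  have e3 : ∀ t, (hG2.hU lt6 hlam * n) * hG2.xU lt7 t * (hG2.hU lt6 hlam * n)⁻¹ = hG2.xU (hG2.neg_lt lt7) (1 * 1 * t) := by
    intro t
    rw [conj2, e1, hG2.hU_conj_x, show chevG2.pairing 6 (chevG2.neg 7) = 1 by decide +kernel]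
    apply hG2.xU_congr _ _ rfl
    field_simp
  have e4 : ∀ t, (hG2.hU lt6 hlam * n) * hG2.xU (hG2.neg_lt lt7) t * (hG2.hU lt6 hlam * n)⁻¹ = hG2.xU lt7 ((1 * 1)⁻¹ * t) := by
    intro t
    rw [conj2, e2, hG2.hU_conj_x, show chevG2.pairing 6 7 = -1 by decide +kernel]
    apply hG2.xU_congr _ _ rfl
    field_simp
  obtain ⟨g₂, hg₂, eg₂⟩ := tw_step_sq hG2 rank1G2 h2 lt7 (one_ne_zero (α := F)) e3 e4
  rw [inv_one, nR_eq7] at eg₂
  -- the element over the reflection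
  obtain ⟨z₀, hz₀, ez₀⟩ := over_congr hG2 (F := F) (l := 0 :: [0, 1, 0, 1, 0, 1]) (l' := [1, 0] ++ 1 :: [1, 0].reverse)
    (by decide +kernel) (by decide +kernel) (by decide +kernel) (by decide +kernel)
  obtain ⟨h₄, hh₄, e₄⟩ : ∃ h₄ ∈ chevG2.diagonalSubgroup F,
      hG2.nU r0 * (hG2.hU lt6 hlam * n) = h₄ * hG2.nProd ([1, 0] ++ 1 :: [1, 0].reverse) := by
    refine ⟨(hG2.nU r0 * (hG2.hU lt6 hlam * h) * (hG2.nU r0)⁻¹) * z₀,
      Subgroup.mul_mem _ (hG2.N_conj_H (hG2.nU_mem_N r0) (Subgroup.mul_mem _ (hG2.hU_mem _ _) hh)) hz₀, ?_⟩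
    rw [mul_assoc _ z₀, ← ez₀, hG2.nProd_cons, hG2.nE_eq r0, hn]
    group
  have hsq₁ : (hG2.hU lt6 hlam * n) * (hG2.hU lt6 hlam * n) = 1 := by
    rw [← eg₁]
    exact conj_sq_one hsq
  have hne₁ : hG2.hU lt6 hlam * n ≠ 1 := by
    rw [← eg₁]
    exact conj_ne_one hne
  have hsq₂ : (hG2.nU r0 * (hG2.hU lt6 hlam * n)) * (hG2.nU r0 * (hG2.hU lt6 hlam * n)) = 1 := by
    rw [← eg₂]
    exact conj_sq_one hsq₁
  have hne₂ : hG2.nU r0 * (hG2.hU lt6 hlam * n) ≠ 1 := by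
    rw [← eg₂]
    exact conj_ne_one hne₁
  rw [e₄] at hsq₂ hne₂ eg₂
  obtain ⟨g₃, hg₃, eg₃⟩ := caseRefl h2 (m := [1, 0]) (i := 1) (by decide +kernel) (Or.inr rfl) (by decide +kernel) hh₄ hsq₂ hne₂
  refine ⟨g₃ * g₂ * g₁, Subgroup.mul_mem _ (Subgroup.mul_mem _ hg₃ hg₂) hg₁, ?_⟩
  rw [← eg₃, ← eg₂, ← eg₁]
  group

/-- Every involution of `N` is conjugate to `t0`. -/
theorem N_to_t0 [Fintype F] (hF : Odd (Fintype.card F)) {n : GL chevG2.Idx F} (hn : n ∈ chevG2.monomialSubgroup F)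
    (hsq : n * n = 1) (hne : n ≠ 1) : ∃ g ∈ chevG2.group F, g * n * g⁻¹ = t0 F := by
  have h2 := two_ne hF
  obtain ⟨h, hh, l, hl, rfl⟩ := hG2.N_form hn
  obtain ⟨l', hl', hperm⟩ := canon_L12 l hl
  have hidx := L12_idx l' hl'
  obtain ⟨z, hz, ez⟩ := over_congr hG2 (F := F) hl hidx
    (fun r hr => by
      have hrev : ∀ i ∈ l'.reverse, i < chevG2.rank := fun i hi => hidx i (List.mem_reverse.1 hi)
      rw [wperm_append, hperm _ (hG2.wperm_lt hrev hr), L12_rev l' hl' r hr])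
    (fun r hr => by rw [wperm_append, L12_rev l' hl' r hr])
  have e0 : h * hG2.nProd l = (h * z) * hG2.nProd l' := by rw [ez, mul_assoc]
  rw [e0] at hsq hne ⊢
  have hh₁ : h * z ∈ chevG2.diagonalSubgroup F := Subgroup.mul_mem _ hh hz
  have hinv := fun r hr => perm_invol hG2 hh₁ hidx hsq (r := r) hr
  have hL8 := L12_inv l' hl' hinv
  generalize h * z = h₁ at hh₁ hsq hne ⊢
  simp only [L8, List.mem_cons, List.not_mem_nil, or_false] at hL8
  rcases hL8 with rfl | rfl | rfl | rfl | rfl | rfl | rfl | rfl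
  · rw [hG2.nProd_nil, mul_one] at hsq hne ⊢
    obtain ⟨p, q, hp, hq, rfl⟩ := H_coords hh₁
    exact caseH hp hq hsq hne
  · exact caseRefl h2 (m := []) (i := 0) (by decide +kernel) (Or.inl rfl) (by decide +kernel) hh₁ hsq hne
  · exact caseRefl h2 (m := []) (i := 1) (by decide +kernel) (Or.inr rfl) (by decide +kernel) hh₁ hsq hne
  · exact caseRefl h2 (m := [0]) (i := 1) (by decide +kernel) (Or.inr rfl) (by decide +kernel) hh₁ hsq hne
  · exact caseRefl h2 (m := [1]) (i := 0) (by decide +kernel) (Or.inl rfl) (by decide +kernel) hh₁ hsq hne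
  · exact caseRefl h2 (m := [0, 1]) (i := 0) (by decide +kernel) (Or.inl rfl) (by decide +kernel) hh₁ hsq hne
  · exact caseRefl h2 (m := [1, 0]) (i := 1) (by decide +kernel) (Or.inr rfl) (by decide +kernel) hh₁ hsq hne
  · exact caseW0 hF hh₁ hsq hne

/-- Every involution of `G₂(q)`, `q` odd, is conjugate to `t0`. -/
theorem inv_to_t0 [Fintype F] (hF : Odd (Fintype.card F)) {t : GL chevG2.Idx F} (ht : t ∈ chevG2.group F)
    (hsq : t * t = 1) (hne : t ≠ 1) : ∃ g ∈ chevG2.group F, g * t * g⁻¹ = t0 F := by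
  have hodd : ∀ u ∈ chevG2.posUnipotent F, Odd (orderOf u) := by
    intro u hu
    have e1 : orderOf u ∣ Nat.card (chevG2.posUnipotent F) := Subgroup.orderOf_dvd_natCard _ hu
    rw [hG2.card_U, Nat.card_eq_fintype_card] at e1
    exact Odd.of_dvd_nat (hF.pow) e1
  obtain ⟨g, hg, n, hn, e, hnn⟩ := inv_to_N hG2 hodd ht hsq
  have hne' : n ≠ 1 := by
    rw [← e]
    exact conj_ne_one hne
  obtain ⟨g', hg', e'⟩ := N_to_t0 hF hn hnn hne'
  refine ⟨g' * g, Subgroup.mul_mem _ hg' hg, ?_⟩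
  rw [← e', ← e]
  group

/-- Any two involutions of `G₂(q)`, `q` odd, are conjugate. -/
theorem main_conj [Fintype F] (hF : Odd (Fintype.card F)) (s t : ↥(chevG2.group F)) (hs : orderOf s = 2)
    (ht : orderOf t = 2) : IsConj s t := by
  have key : ∀ a : ↥(chevG2.group F), orderOf a = 2 → ∃ g ∈ chevG2.group F, g * (a : GL chevG2.Idx F) * g⁻¹ = t0 F := by
    intro a ha
    refine inv_to_t0 hF a.2 ?_ ?_
    · have e := pow_orderOf_eq_one a
      rw [ha, pow_two] at e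
      exact congrArg Subtype.val e
    · intro e
      have e1 : a = 1 := Subtype.ext e
      rw [e1, orderOf_one] at ha
      omega
  obtain ⟨g, hg, eg⟩ := key s hs
  obtain ⟨g', hg', eg'⟩ := key t ht
  rw [isConj_iff]
  refine ⟨⟨g'⁻¹ * g, Subgroup.mul_mem _ (Subgroup.inv_mem _ hg') hg⟩, Subtype.ext ?_⟩
  show g'⁻¹ * g * (s : GL chevG2.Idx F) * (g'⁻¹ * g)⁻¹ = t
  have e : g'⁻¹ * g * (s : GL chevG2.Idx F) * (g'⁻¹ * g)⁻¹ = g'⁻¹ * (g * (s : GL chevG2.Idx F) * g⁻¹) * g' := by group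
  rw [e, eg, ← eg']
  group

end Cfsg.Agent.Lib.Coll.G2Odd
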