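/-
The group ²F₄(q): the data of the collector for the elimination of the involutions.
-/
import Cfsg.Agent.Lib.Coll.ReeA

set_option autoImplicit false
set_option maxRecDepth 100000

namespace Cfsg.Agent.Lib.Chev

open Cfsg.Lie Coll

namespace Coll

/-- A letter for the short orbit. -/
def lP (r1 r2 i : ℕ) : List (ℕ × PP) := [(r1, [[i + 1]]), (r2, [[i]])]

/-- A letter for the long orbit. -/
def lS (r1 r2 r3 r4 i : ℕ) : List (ℕ × PP) := [(r1, [[i + 1]]), (r2, [[i]]), (r3, [[i, i + 1], [i + 2]]), (r4, [[i + 3]])]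

/-- The chain word starting with the short orbit. -/
def wPc : List (ℕ × PP) := (lP 33 24 0 ++ lS 34 26 36 42 2 ++ lP 38 43 6 ++ lS 29 41 44 47 8 ++ lP 39 45 12 ++ lS 35 31 40 46 14 ++ lP 37 32 18 ++ lS 27 25 28 30 20)

/-- The chain word starting with the long orbit. -/
def wSc : List (ℕ × PP) := (lS 27 25 28 30 0 ++ lP 37 32 4 ++ lS 35 31 40 46 6 ++ lP 39 45 10 ++ lS 29 41 44 47 12 ++ lP 38 43 16 ++ lS 34 26 36 42 18 ++ lP 33 24 22)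

/-- Data of the collector. -/
def LPsq : List PP := [[], [], [[0,20]], [], [[20,21]], [[0,22],[2,21]], [[20,21,21]], [[0,20,21,21],[0,23],[2,21,21]], [[0,20,20,21,21],[0,20,23],[0,22,22],[2,23],[14,20]], [], [[1,21]], [[1,20,21],[1,22],[3,20]], [[0,1,22],[0,3,20],[0,15],[1,2,21],[1,9],[2,3]], [[1,21,22],[1,23],[3,22],[15,21]], [[0,1,20,21,21],[0,1,23],[0,3,22],[0,19],[1,2,21,21],[1,9,21],[1,14],[2,3,21],[3,9],[4,21]], [[0,1,20,20,21,21],[0,1,20,21,22],[0,1,20,23],[0,1,22,22],[0,3,20,20,21],[0,15,20,21],[0,15,22],[0,19,20],[1,2,20,21,21],[1,2,23],[1,9,22],[1,18],[2,3,20,21],[2,15,21],[2,19],[3,9,20],[4,20,21],[4,22],[7,20],[9,15]], [[0,1,20,20,21,21,21],[0,1,20,21,21,22],[0,1,20,21,23],[0,3,20,21,22],[0,3,20,23],[0,3,22,22],[0,15,23],[0,19,20,21],[0,19,22],[1,9,20,21,21],[1,9,21,22],[1,9,23],[1,14,20,21],[1,14,22],[1,18,21],[2,3,23],[2,15,21,21],[2,19,21],[3,9,20,21],[3,9,22],[3,14,20],[3,18],[4,21,22],[4,23],[7,22],[9,19],[13,21],[14,15]],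 [[1,1,23],[3,3,20]], [[0,1,1,20,21,21],[0,1,1,23],[0,3,3,20],[0,8],[1,1,2,21,21],[1,1,14],[2,3,3]], [[0,1,1,20,20,21,21],[0,1,1,20,23],[0,1,1,22,22],[0,8,20],[0,15,15],[1,1,2,23],[1,1,18],[2,3,3,20],[2,8],[5,20]], [[0,1,1,20,20,21,21,21],[0,1,1,20,21,23],[0,1,1,21,22,22],[0,1,1,22,23],[0,1,3,20,20,21,21],[0,1,3,20,21,22],[0,1,15,21,22],[0,1,15,23],[0,3,3,20,20,21],[0,3,3,20,22],[0,3,15,22],[0,8,20,21],[0,8,22],[0,15,19],[1,1,2,20,21,21,21],[1,1,2,21,21,22],[1,1,2,21,23],[1,1,9,21,22],[1,1,9,23],[1,1,14,22],[1,1,18,21],[1,2,3,20,21,21],[1,2,3,21,22],[1,2,3,23],[1,3,9,22],[1,3,14,20],[1,3,18],[1,4,20,21,21],[1,4,21,22],[1,4,23],[1,7,20,21],[1,7,22],[1,13,21],[1,16],[2,3,3,22],[2,3,15,21],[2,3,19],[2,8,21],[3,4,22],[3,7,20],[3,13],[4,15,21],[4,19],[5,22],[6,21],[7,15],[8,9]], [[0,1,1,20,20,21,21,21,21],[0,1,1,20,21,21,23],[0,3,3,20,23],[0,3,3,22,22],[0,8,23],[0,19,19],[1,1,2,20,21,21,21,21],[1,1,14,23],[1,1,18,21,21],[2,8,21,21],[3,3,14,20],[3,3,18],[5,20,21,21],[5,23],[6,21,21],[8,14]],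 [[0,1,1,20,21,21,22,22],[0,3,3,20,20,20,21,21],[0,8,20,20,21,21],[0,8,20,23],[0,8,22,22],[0,15,15,23],[0,19,19,20],[1,1,2,20,20,21,21,21,21],[1,1,2,20,21,21,23],[1,1,14,20,23],[1,1,14,22,22],[1,1,18,20,21,21],[1,1,18,23],[2,3,3,20,20,21,21],[2,3,3,20,23],[2,3,3,22,22],[2,8,20,21,21],[2,8,23],[2,15,15,21,21],[2,19,19],[3,3,18,20],[5,20,23],[5,22,22],[6,23],[8,18],[12,20],[14,15,15]], [[0,0,1,1,20,20,20,21,21,21,21],[0,0,1,1,20,23,23],[0,0,1,1,22,22,23],[0,0,3,3,20,20,23],[0,0,3,3,20,22,22],[0,0,15,15,23],[0,0,19,19,20],[0,1,1,2,20,20,21,21,21,21],[0,1,1,2,21,21,22,22],[0,1,1,2,23,23],[0,1,1,14,20,20,21,21],[0,1,1,14,20,23],[0,2,3,3,20,23],[0,2,15,15,21,21],[0,2,19,19],[0,3,3,14,20,20],[0,5,20,20,21,21],[0,5,20,23],[0,5,22,22],[0,6,20,21,21],[0,6,23],[0,8,14,20],[0,12,20],[0,17],[1,1,2,2,20,21,21,21,21],[1,1,2,2,21,21,23],[1,1,2,14,20,21,21],[1,1,9,9,20,21,21],[1,1,9,9,23],[1,1,14,14,20],[1,1,14,18],[2,2,3,3,20,21,21],[2,3,3,18],[2,5,23],[2,6,21,21],[2,12],[3,3,9,9,20],[4,4,23],[5,14,20],[5,18],[6,14],[7,7,20],[8,9,9]]]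

theorem nfPsq : digF4.tbl.collectNF 100000 (wPc ++ wPc) = some LPsq := by decide +kernel

/-- Data of the collector. -/
def LPA1 : List PP := [[[0]], [[24]], [[0,24],[2]], [[25]], [[26]], [[0,26],[2,25],[9]], [[24,25,25],[27]], [[0,24,25,25],[0,27],[2,25,25],[14]], [[0,26,26],[2,24,25,25],[2,27],[18]], [[1]], [[3]], [[15]], [[1,9],[4]], [[19]], [[1,14],[3,9],[7]], [[1,18],[13]], [[3,18],[16]], [[8]], [[1,1,14],[2,3,3],[5]], [[1,1,18],[6]], [[1,3,18],[1,14,15],[3,9,15],[7,15],[8,9],[10]], [[3,3,18],[8,14],[12]], [[8,18],[14,15,15],[17]], [[1,1,14,18],[2,3,3,18],[5,18],[6,14],[11]]]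

theorem nfPA1 : digF4.tbl.collectNF 100000 (lS 27 25 28 30 24 ++ wsub [20,21,22,23] wPc) = some LPA1 := by decide +kernel

/-- Data of the collector. -/
def LPA2 : List PP := [[[0]], [[20],[24]], [[2]], [[21],[25]], [[21,24],[22],[26]], [[9]], [[20,21,21],[21,21,24],[23],[24,25,25],[27]], [[14]], [[14,20],[14,24],[18]], [[1]], [[1,21],[1,25],[3]], [[1,21,24],[1,22],[1,26],[3,20],[3,24],[15]], [[1,9],[4]], [[1,20,21,21],[1,21,22],[1,21,24,25],[1,21,26],[1,22,25],[1,23],[1,24,25,25],[1,25,26],[1,27],[3,20,21],[3,20,25],[3,22],[3,24,25],[3,26],[15,21],[15,25],[19]], [[1,9,21],[1,9,25],[1,14],[3,9],[4,21],[4,25],[7]], [[1,9,21,24],[1,9,22],[1,9,26],[1,14,20],[1,14,24],[1,18],[3,9,20],[3,9,24],[4,21,24],[4,22],[4,26],[7,20],[7,24],[13]], [[1,9,20,21,21],[1,9,21,22],[1,9,21,24,25],[1,9,21,26],[1,9,22,25],[1,9,23],[1,9,24,25,25],[1,9,25,26],[1,9,27],[1,14,20,21],[1,14,20,25],[1,14,22],[1,14,24,25],[1,14,26],[1,18,21],[1,18,25],[3,9,20,21],[3,9,20,25],[3,9,22],[3,9,24,25],[3,9,26],[3,18],[4,20,21,21],[4,21,22],[4,21,24,25],[4,21,26],[4,22,25],[4,23],[4,24,25,25],[4,25,26],[4,27],[7,20,21],[7,20,25],[7,22],[7,24,25],[7,26],[13,21],[13,25],[16]],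 [[1,1,20,21,21],[1,1,21,21,24],[1,1,23],[1,1,24,25,25],[1,1,27],[3,3,20],[3,3,24],[8]], [[1,1,14],[2,3,3],[5]], [[1,1,14,20],[1,1,14,24],[1,1,18],[2,3,3,20],[2,3,3,24],[5,20],[5,24],[6]], [[1,1,9,20,21,21],[1,1,9,21,22],[1,1,9,21,24,25],[1,1,9,21,26],[1,1,9,22,25],[1,1,9,23],[1,1,9,24,25,25],[1,1,9,25,26],[1,1,9,27],[1,1,14,20,21],[1,1,14,20,25],[1,1,14,22],[1,1,14,24,25],[1,1,14,26],[1,1,18,21],[1,1,18,25],[1,3,9,20,21],[1,3,9,20,25],[1,3,9,22],[1,3,9,24,25],[1,3,9,26],[1,3,18],[1,4,20,21,21],[1,4,21,22],[1,4,21,24,25],[1,4,21,26],[1,4,22,25],[1,4,23],[1,4,24,25,25],[1,4,25,26],[1,4,27],[1,9,15,21],[1,9,15,25],[1,14,15],[2,3,3,20,21],[2,3,3,20,25],[2,3,3,22],[2,3,3,24,25],[2,3,3,26],[3,4,20,21],[3,4,20,25],[3,4,22],[3,4,24,25],[3,4,26],[3,9,15],[4,15,21],[4,15,25],[5,20,21],[5,20,25],[5,22],[5,24,25],[5,26],[6,21],[6,25],[7,15],[8,9],[10]], [[1,1,14,20,25,25],[1,1,14,23],[1,1,14,27],[1,1,18,21,21],[1,1,18,25,25],[2,3,3,20,25,25],[2,3,3,23],[2,3,3,27],[3,3,18],[5,20,25,25],[5,23],[5,27],[6,21,21],[6,25,25],[8,14],[12]],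 [[1,1,14,20,20,21,21],[1,1,14,20,23],[1,1,14,20,24,25,25],[1,1,14,20,27],[1,1,14,22,22],[1,1,14,23,24],[1,1,14,24,24,25,25],[1,1,14,24,27],[1,1,14,26,26],[1,1,18,20,21,21],[1,1,18,21,21,24],[1,1,18,23],[1,1,18,24,25,25],[1,1,18,27],[2,3,3,20,20,21,21],[2,3,3,20,23],[2,3,3,20,24,25,25],[2,3,3,20,27],[2,3,3,22,22],[2,3,3,23,24],[2,3,3,24,24,25,25],[2,3,3,24,27],[2,3,3,26,26],[3,3,18,20],[3,3,18,24],[5,20,20,21,21],[5,20,23],[5,20,24,25,25],[5,20,27],[5,22,22],[5,23,24],[5,24,24,25,25],[5,24,27],[5,26,26],[6,20,21,21],[6,21,21,24],[6,23],[6,24,25,25],[6,27],[8,14,20],[8,14,24],[8,18],[12,20],[12,24],[14,15,15],[17]], [[1,1,9,9,20,21,21],[1,1,9,9,21,21,24],[1,1,9,9,23],[1,1,9,9,24,25,25],[1,1,9,9,27],[1,1,14,14,20],[1,1,14,14,24],[1,1,14,18],[2,3,3,18],[3,3,9,9,20],[3,3,9,9,24],[4,4,20,21,21],[4,4,21,21,24],[4,4,23],[4,4,24,25,25],[4,4,27],[5,18],[6,14],[7,7,20],[7,7,24],[11]]]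

theorem nfPA2 : digF4.tbl.collectNF 100000 (wPc ++ lS 27 25 28 30 24) = some LPA2 := by decide +kernel

/-- Data of the collector. -/
def LPsq2 : List PP := [[], [], [], [], [], [], [], [], [], [], [], [], [[1,9]], [], [[0,19]], [[1,18]], [[9,19]], [], [[0,8]], [[1,1,18]], [[1,16],[4,19],[8,9]], [[0,19,19]], [[8,18]], [[0,17],[5,18],[8,9,9]]]

theorem nfPsq2 : digF4.tbl.collectNF 100000 (wsub [20,21,22,23,2,3,14,15] (wPc ++ wPc)) = some LPsq2 := by decide +kernel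

/-- Data of the collector. -/
def EPB : List PP := [[], [[0,27],[1,31],[4]], [[0,25],[1,26],[7]], [[1,24],[13]], [[0,30],[1,1,26],[5]], [[0,27,27],[1,1,24],[6]], [[1,25,31],[1,26,27],[1,28],[4,25],[10]], [[0,25,25],[12]], [[0,26,27,27],[0,29],[1,1,24,26],[11]]]

theorem chkPB : digF4.tbl.chkDiff 100000 100000 (lP 37 32 24 ++ lS 35 31 40 46 26 ++ wsub [32,33] (lS 29 41 44 47 30) ++ wsub [2,3,8,9,14,15,16,17,18,19,20,21,22,23] wPc) (lP 33 24 0 ++ (lP 37 32 24 ++ lS 35 31 40 46 26 ++ wsub [32,33] (lS 29 41 44 47 30))) EPB = true := by decide +kernel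

/-- Data of the collector. -/
def LSsq : List PP := [[], [], [[0,22]], [], [[0,1]], [[0,1,22],[1,18],[2,22]], [[0,1,1]], [[1,1,18],[3,22]], [[0,1,1,18],[0,3,22],[0,6],[2,2,22],[3,18]], [], [[1,23]], [[0,19],[2,23]], [[0,19,22],[1,18,23],[2,22,23],[7,22],[13,23],[18,19]], [[0,1,1,23],[0,1,19],[1,2,23],[1,7],[2,19],[3,23]], [[0,1,1,22,23],[0,1,19,22],[1,2,22,23],[1,13,23],[1,20],[2,19,22],[3,22,23],[5,22],[6,23],[13,19]], [[0,1,1,18,23],[0,1,18,19],[0,5,22],[0,13,19],[0,17],[1,2,18,23],[1,7,18],[2,7,22],[2,13,23],[2,18,19],[2,20],[3,18,23],[4,23],[5,18],[7,13]], [[0,1,1,7,22],[0,1,1,13,23],[0,1,1,20],[0,1,5,22],[0,1,13,19],[0,1,17],[0,6,19],[1,2,7,22],[1,2,13,23],[1,2,20],[1,4,23],[1,5,18],[1,11],[2,5,22],[2,6,23],[2,13,19],[2,17],[3,7,22],[3,13,23],[3,20],[4,19],[5,13],[6,7]], [[0,1,1,23,23],[0,19,19],[3,23,23]], [[0,1,1,22,23,23],[0,19,19,22],[1,1,18,23,23],[3,22,23,23],[6,23,23],[12,22],[18,19,19]],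 [[0,0,19,19,22],[0,1,1,18,23,23],[0,12,22],[0,21],[2,2,22,23,23],[3,18,23,23],[4,23,23],[7,7,22],[12,18]], [[0,1,1,18,19,23],[0,1,1,20,23],[0,1,5,22,23],[0,1,7,19,22],[0,1,12,22],[0,1,17,23],[0,1,21],[0,5,19,22],[0,13,19,19],[0,17,19],[1,2,18,19,23],[1,2,20,23],[1,5,18,23],[1,7,7,22],[1,7,18,19],[1,7,20],[1,11,23],[1,12,18],[1,16],[2,5,22,23],[2,12,22],[2,13,19,23],[2,17,23],[2,19,20],[2,21],[3,18,19,23],[3,20,23],[4,19,23],[5,7,22],[5,20],[6,7,23],[7,17],[8,23],[11,19],[12,13]], [[0,0,1,1,1,1,22,23,23],[0,0,1,1,19,19,22],[0,1,1,6,23,23],[0,6,19,19],[1,1,2,2,22,23,23],[1,1,4,23,23],[1,1,12,18],[1,1,16],[2,2,19,19,22],[3,3,22,23,23],[3,6,23,23],[3,12,22],[3,18,19,19],[3,21],[4,19,19],[5,5,22],[6,12]], [[0,0,1,1,1,1,18,23,23],[0,0,1,1,12,22],[0,0,1,1,21],[0,0,6,19,19],[0,1,1,4,23,23],[0,1,1,7,7,22],[0,1,1,12,18],[0,1,1,16],[0,3,12,22],[0,3,18,19,19],[0,3,21],[0,4,19,19],[0,5,5,22],[0,10],[1,1,2,2,18,23,23],[1,1,7,7,18],[2,2,6,23,23],[2,2,12,22],[2,2,21],[3,3,18,23,23],[3,4,23,23],[3,7,7,22],[3,12,18],[3,16],[4,12],[5,5,18],[6,7,7]],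 [[0,0,1,1,1,1,18,22,23,23],[0,0,1,1,12,22,22],[0,0,1,1,21,22],[0,0,6,19,19,22],[0,1,1,4,22,23,23],[0,1,1,6,18,23,23],[0,1,1,12,18,22],[0,1,1,13,13,23,23],[0,1,1,16,22],[0,1,1,20,20],[0,3,12,22,22],[0,3,18,19,19,22],[0,3,21,22],[0,4,19,19,22],[0,6,12,22],[0,6,21],[0,10,22],[0,13,13,19,19],[0,17,17],[1,1,2,2,18,22,23,23],[1,1,4,18,23,23],[1,1,12,18,18],[1,1,16,18],[2,2,6,22,23,23],[2,2,12,22,22],[2,2,21,22],[3,3,18,22,23,23],[3,4,22,23,23],[3,6,18,23,23],[3,13,13,23,23],[3,16,22],[3,18,18,19,19],[3,18,21],[3,20,20],[4,6,23,23],[4,21],[5,5,18,22],[6,7,7,22],[6,16],[9,22],[10,18],[12,13,13]]]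

theorem nfSsq : digF4.tbl.collectNF 100000 (wSc ++ wSc) = some LSsq := by decide +kernel

/-- Data of the collector. -/
def LSA1 : List PP := [[[24]], [], [], [], [[2]], [[13]], [[3]], [[6]], [[4]], [[25]], [], [[2,25],[7]], [[13,25],[20]], [[3,25],[5]], [[6,25],[17]], [[2,13,25],[4,25],[7,13],[11]], [[2,6,25],[3,13,25],[5,13],[8]], [[3,25,25],[12]], [[6,25,25],[21]], [[4,25,25],[16]], [[2,6,25,25],[3,13,25,25],[3,20,25],[5,20],[6,7,25],[12,13],[14]], [[3,6,25,25],[10]], [[2,2,6,25,25],[3,4,25,25],[6,7,7],[9]], [[3,13,13,25,25],[4,6,25,25],[15]]]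

theorem nfSA1 : digF4.tbl.collectNF 100000 (lP 33 24 24 ++ wsub [0,1,18,19,22,23] wSc) = some LSA1 := by decide +kernel

/-- Data of the collector. -/
def LSA2 : List PP := [[[22],[24]], [[0]], [[0,22],[0,24],[18]], [[1]], [[2]], [[1,18],[2,22],[2,24],[13]], [[0,1,1],[3]], [[0,1,1,22],[0,1,1,24],[1,1,18],[3,22],[3,24],[6]], [[0,1,1,18],[2,2,22],[2,2,24],[3,18],[4]], [[23],[25]], [[19]], [[7]], [[7,22],[7,24],[20]], [[5]], [[5,22],[5,24],[17]], [[5,18],[7,13],[11]], [[5,13],[8]], [[12]], [[12,22],[12,24],[18,19,19],[21]], [[7,7,22],[7,7,24],[12,18],[16]], [[5,13,23],[5,13,25],[5,18,19],[5,20],[7,13,19],[8,23],[8,25],[11,19],[12,13],[14]], [[5,5,22],[5,5,24],[10]], [[5,5,18],[6,7,7],[9]], [[5,5,18,22],[5,5,18,24],[6,7,7,22],[6,7,7,24],[9,22],[9,24],[10,18],[15]]]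

theorem nfSA2 : digF4.tbl.collectNF 100000 (wSc ++ lP 33 24 24) = some LSA2 := by decide +kernel

/-- Data of the collector. -/
def LSsq2 : List PP := [[], [], [], [], [], [], [], [], [], [], [], [], [], [], [], [[2,20]], [[2,17],[3,20],[5,13]], [], [], [], [[2,21],[5,20],[12,13]], [[3,21]], [[2,2,21],[3,16],[4,12]], [[3,20,20],[4,21],[12,13,13]]]

theorem nfSsq2 : digF4.tbl.collectNF 100000 (wsub [0,1,6,7,18,19,22,23] (wSc ++ wSc)) = some LSsq2 := by decide +kernel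

/-- Data of the collector. -/
def ESB : List PP := [[], [[3,24],[4]], [[2,25],[5]], [[2,26],[11]], [[2,29],[3,26],[4,25],[8]], [[2,24,25,25],[2,25,26],[2,27],[14],[32]], [[3,24,25,25],[3,27],[4,25,25],[10]], [[2,2,24,25,25],[2,2,27],[3,28],[9]], [[3,26,26],[4,24,25,25],[4,27],[15],[33]]]

theorem chkSB : digF4.tbl.chkDiff 100000 100000 (lS 34 26 36 42 24 ++ lP 38 43 28 ++ wsub [0,1,6,7,12,13,16,17,18,19,20,21,22,23] wSc) (wsub [0,1,30,31] (lS 27 25 28 30 0 ++ lS 29 41 44 47 30) ++ (lS 34 26 36 42 24 ++ lP 38 43 28)) ESB = true := by decide +kernel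

end Coll

end Cfsg.Agent.Lib.Chev
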